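import Groth.Agent.DVRDom.Basic
import Mathlib.AlgebraicGeometry.Morphisms.FiniteType
import Mathlib.AlgebraicGeometry.Noetherian
import Mathlib.AlgebraicGeometry.ValuativeCriterion

/-! DVRs through specializations on locally Noetherian schemes. -/

universe u

namespace Groth.Agent.DVRDom

open CategoryTheory AlgebraicGeometry IsLocalRing

/-- A field essentially of finite type over a ring is generated as a field by finitely many
elements. -/
theorem exists_finset_closure_eq_top {R L : Type*} [CommRing R] [Field L] [Algebra R L]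
    [h : Algebra.EssFiniteType R L] :
    ∃ s : Finset L, Subfield.closure (Set.range (algebraMap R L) ∪ s) = ⊤ := by
  obtain ⟨s, hs⟩ := (Algebra.essFiniteType_iff R L).mp h
  refine ⟨s, top_le_iff.mp fun z _ => ?_⟩
  obtain ⟨t, ht, htu, hzt⟩ := hs z
  have hle : ∀ w ∈ Algebra.adjoin R (s : Set L),
      w ∈ Subfield.closure (Set.range (algebraMap R L) ∪ s) := fun w hw => by
    induction hw using Algebra.adjoin_induction with
    | mem y hy => exact Subfield.subset_closure (Or.inr hy)
    | algebraMap r => exact Subfield.subset_closure (Or.inl ⟨r, rfl⟩)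
    | add p q _ _ hp hq => exact add_mem hp hq
    | mul p q _ _ hp hq => exact mul_mem hp hq
  have : z = z * t * t⁻¹ := by rw [mul_inv_cancel_right₀ htu.ne_zero]
  rw [this]
  exact mul_mem (hle _ hzt) (inv_mem (hle _ ht))

/-- Dominating DVR for a Noetherian local ring mapping non-locally to a finitely generated field. -/
theorem exists_dvr_dominating {A L : Type*} [CommRing A] [IsNoetherianRing A] [IsLocalRing A]
    [Field L] [Algebra A L] (s : Finset L)
    (hs : Subfield.closure (Set.range (algebraMap A L) ∪ s) = ⊤)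
    (hne : ∃ a ∈ maximalIdeal A, algebraMap A L a ≠ 0) :
    ∃ R : ValuationSubring L, IsDiscreteValuationRing R ∧ (∀ a : A, algebraMap A L a ∈ R) ∧
      ∀ a ∈ maximalIdeal A, R.valuation (algebraMap A L a) < 1 := by
  classical
  obtain ⟨W, hW, hWloc⟩ := IsLocalRing.exists_factor_valuationRing (algebraMap A L)
  have hmW : ∀ a ∈ maximalIdeal A, algebraMap A L a ∈ W.nonunits := fun a ha => by
    have hu : ¬ IsUnit (((algebraMap A L).codRestrict W.toSubring hW) a) :=
      fun hu => (mem_maximalIdeal _).mp ha (IsUnit.of_map _ a hu)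
    exact ValuationSubring.coe_mem_nonunits_iff.mpr ((mem_maximalIdeal _).mpr hu)
  obtain ⟨g, hg⟩ := (IsNoetherian.noetherian (maximalIdeal A) : (maximalIdeal A).FG)
  have hJ0 : ∃ x ∈ g.image (algebraMap A L), x ≠ 0 := by
    by_contra hall
    push Not at hall
    obtain ⟨a, ha, ha0⟩ := hne
    apply ha0
    have : maximalIdeal A ≤ RingHom.ker (algebraMap A L) := by
      rw [← hg, Ideal.span_le]
      exact fun b hb => hall _ (Finset.mem_image_of_mem _ hb)
    exact this ha
  obtain ⟨R, hR, hAR, hJR⟩ := exists_dvr_of_valuationSubring s hs W hW (g.image (algebraMap A L))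
    (fun x hx => by
      obtain ⟨b, hb, rfl⟩ := Finset.mem_image.mp hx
      exact hmW b (hg ▸ Ideal.subset_span hb)) hJ0
  refine ⟨R, hR, hAR, fun a ha => ?_⟩
  have : maximalIdeal A ≤ Ideal.comap ((algebraMap A L).codRestrict R.toSubring hAR) (maximalIdeal R) := by
    conv_lhs => rw [← hg]
    refine Ideal.span_le.mpr fun b hb => ?_
    exact ValuationSubring.coe_mem_nonunits_iff.mp (hJR _ (Finset.mem_image_of_mem _ hb))
  exact ValuationSubring.coe_mem_nonunits_iff.mpr (this ha)

/-- Points of a locally Noetherian scheme: a strict specialization of the image of a point is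
realised by a DVR in the residue field. -/
theorem exists_dvr_through_specialization {X Y : Scheme.{u}} [IsLocallyNoetherian Y]
    (p : X ⟶ Y) [LocallyOfFiniteType p] (x : X) (y' : Y) (hsp : p.base x ⤳ y') (hne : y' ≠ p.base x) :
    ∃ (A : ValuationSubring (X.residueField x)) (h : Spec (CommRingCat.of A) ⟶ Y), IsDiscreteValuationRing A ∧
      h.base (IsLocalRing.closedPoint A) = y' ∧
      Spec.map (CommRingCat.ofHom A.subtype) ≫ h = X.fromSpecResidueField x ≫ p := by
  let φ : Y.presheaf.stalk y' ⟶ X.residueField x :=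
    Y.presheaf.stalkSpecializes hsp ≫ p.stalkMap x ≫ X.residue x
  have w : Spec.map φ ≫ Y.fromSpecStalk y' = X.fromSpecResidueField x ≫ p := by
    simp only [φ, Spec.map_comp, Category.assoc, Scheme.SpecMap_stalkSpecializes_fromSpecStalk,
      Scheme.SpecMap_stalkMap_fromSpecStalk, Scheme.fromSpecResidueField]
  let := φ.hom.toAlgebra
  -- finitely many generators
  obtain ⟨s, hs⟩ : ∃ s : Finset (X.residueField x),
      Subfield.closure (Set.range φ.hom ∪ s) = ⊤ := by
    let ψ : Y.presheaf.stalk (p.base x) →+* X.residueField x := (p.stalkMap x ≫ X.residue x).hom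
    have hψ : ψ.EssFiniteType := RingHom.EssFiniteType.stableUnderComposition _ _
      (LocallyOfFiniteType.stalkMap p x)
      (RingHom.FiniteType.essFiniteType (RingHom.FiniteType.of_surjective _ (X.residue_surjective x)))
    let := ψ.toAlgebra
    have : Algebra.EssFiniteType (Y.presheaf.stalk (p.base x)) (X.residueField x) := hψ
    obtain ⟨s, hs⟩ := exists_finset_closure_eq_top (R := Y.presheaf.stalk (p.base x)) (L := X.residueField x)
    refine ⟨s, top_le_iff.mp (hs.ge.trans (Subfield.closure_le.mpr ?_))⟩
    rintro z (⟨c, rfl⟩ | hz)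
    · obtain ⟨_, ⟨⟨U, hU, rfl⟩, hy'U⟩⟩ :=
        Y.isBasis_affineOpens.exists_subset_of_mem_open (Set.mem_univ y') isOpen_univ
      have hyU : p.base x ∈ U := hsp.mem_open U.2 hy'U.1
      let := Y.presheaf.algebra_section_stalk ⟨p.base x, hyU⟩
      have := hU.isLocalization_stalk ⟨p.base x, hyU⟩
      obtain ⟨⟨a, b⟩, hab⟩ := IsLocalization.surj (hU.primeIdealOf ⟨p.base x, hyU⟩).asIdeal.primeCompl c
      have key : ∀ a : Γ(Y, U), ψ (algebraMap Γ(Y, U) (Y.presheaf.stalk (p.base x)) a) =
          φ.hom (Y.presheaf.germ U y' hy'U.1 a) := fun a => by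
        have := congrArg (fun q => q.hom a) (Y.presheaf.germ_stalkSpecializes (U := U) hy'U.1 hsp)
        simp only [CommRingCat.hom_comp, RingHom.coe_comp, Function.comp_apply] at this
        change ψ (Y.presheaf.germ U (p.base x) hyU a) = _
        rw [← this]
        rfl
      have hb : IsUnit (ψ (algebraMap Γ(Y, U) (Y.presheaf.stalk (p.base x)) b)) :=
        (IsLocalization.map_units _ b).map ψ
      have hc : ψ c = ψ (algebraMap Γ(Y, U) _ a) * (ψ (algebraMap Γ(Y, U) _ (b : Γ(Y, U))))⁻¹ := by
        rw [eq_mul_inv_iff_mul_eq₀ hb.ne_zero, ← map_mul, hab]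
      show ψ c ∈ Subfield.closure (Set.range φ.hom ∪ s)
      rw [hc, key, key]
      exact mul_mem (Subfield.subset_closure (Or.inl ⟨_, rfl⟩))
        (inv_mem (Subfield.subset_closure (Or.inl ⟨_, rfl⟩)))
    · exact Subfield.subset_closure (Or.inr hz)
  -- some element of the maximal ideal survives
  have hne' : ∃ a ∈ maximalIdeal (Y.presheaf.stalk y'), φ.hom a ≠ 0 := by
    by_contra hall
    push Not at hall
    have : IsLocalHom φ.hom := ⟨fun a ha => by
      by_contra hu
      exact ha.ne_zero (hall a ((mem_maximalIdeal _).mpr hu))⟩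
    apply hne
    have h0 := congrArg (fun q => q (closedPoint (X.residueField x))) w
    simp only [Scheme.Hom.comp_apply, Scheme.fromSpecResidueField_apply] at h0
    rw [← h0, show Spec.map φ (closedPoint (X.residueField x)) = closedPoint (Y.presheaf.stalk y') from
      IsLocalRing.comap_closedPoint φ.hom, Y.fromSpecStalk_closedPoint]
  have : IsNoetherianRing (Y.presheaf.stalk y') := inferInstance
  obtain ⟨A, hA, hmem, hval⟩ := exists_dvr_dominating (A := Y.presheaf.stalk y') s hs hne'
  let α : Y.presheaf.stalk y' ⟶ CommRingCat.of A :=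
    CommRingCat.ofHom (φ.hom.codRestrict A.toSubring hmem)
  refine ⟨A, Spec.map α ≫ Y.fromSpecStalk y', hA, ?_, ?_⟩
  · have : IsLocalHom α.hom := ⟨fun a ha => by
      by_contra hu
      exact (mem_maximalIdeal (α.hom a)).mp ((A.valuation_lt_one_iff ⟨_, hmem a⟩).mpr
        (hval a ((mem_maximalIdeal _).mpr hu))) ha⟩
    rw [Scheme.Hom.comp_apply, show Spec.map α (closedPoint A) = closedPoint (Y.presheaf.stalk y') from
      IsLocalRing.comap_closedPoint α.hom, Y.fromSpecStalk_closedPoint]
  · rw [← w, ← Spec.map_comp_assoc]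
    rfl

end Groth.Agent.DVRDom
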