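import Groth.Agent.DVRDom.Spread
import Mathlib.AlgebraicGeometry.AffineSpace
import Mathlib.AlgebraicGeometry.Morphisms.Proper

/-! Universal closedness tested on affine spaces over the base. -/

universe u

namespace Groth.Agent.DVRDom

open CategoryTheory CategoryTheory.Limits AlgebraicGeometry

theorem universallyClosed_of_forall_affineSpace {X S : Scheme.{u}} (f : X ⟶ S) [QuasiCompact f]
    (h : ∀ n : ℕ, IsClosedMap (pullback.snd f (𝔸(ULift.{u} (Fin n); S) ↘ S)).base) :
    UniversallyClosed f := by
  rw [IsZariskiLocalAtTarget.iff_of_openCover (P := @UniversallyClosed) S.affineCover]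
  intro i
  change UniversallyClosed (pullback.snd f (S.affineCover.f i))
  let R := Γ(S.affineCover.X i, ⊤)
  let b : Spec R ⟶ S := (S.affineCover.X i).isoSpec.inv ≫ S.affineCover.f i
  have hsq : IsPullback (pullback.fst f (S.affineCover.f i))
      (pullback.snd f (S.affineCover.f i) ≫ (S.affineCover.X i).isoSpec.hom) f b :=
    IsPullback.of_iso (IsPullback.of_hasPullback f (S.affineCover.f i)) (Iso.refl _) (Iso.refl _)
      (S.affineCover.X i).isoSpec (Iso.refl _) (by simp) (by simp) (by simp) (by simp [b])
  let f₁ := pullback.snd f (S.affineCover.f i) ≫ (S.affineCover.X i).isoSpec.hom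
  suffices UniversallyClosed f₁ from
    (MorphismProperty.cancel_right_of_respectsIso @UniversallyClosed _ _).mp this
  have : QuasiCompact f₁ := by dsimp [f₁]; infer_instance
  refine universallyClosed_of_forall_mvPolynomial f₁ fun n => ?_
  let N := ULift.{u} (Fin n)
  let gn := Spec.map (CommRingCat.ofHom (algebraMap R (MvPolynomial (Fin n) R)))
  let e : CommRingCat.of (MvPolynomial N R) ≅ CommRingCat.of (MvPolynomial (Fin n) R) :=
    (MvPolynomial.renameEquiv R Equiv.ulift).toRingEquiv.toCommRingCatIso
  let m : Spec (CommRingCat.of (MvPolynomial (Fin n) R)) ⟶ 𝔸(N; S) :=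
    Spec.map e.hom ≫ (AffineSpace.SpecIso N R).inv ≫ AffineSpace.map N b
  have hopen : IsOpenImmersion m := by
    have : IsOpenImmersion b := inferInstance
    have : IsOpenImmersion (AffineSpace.map N b) :=
      MorphismProperty.of_isPullback (P := @IsOpenImmersion) (AffineSpace.isPullback_map b).flip ‹_›
    infer_instance
  have hm : m ≫ 𝔸(N; S) ↘ S = gn ≫ b := by
    simp only [m, Category.assoc, AffineSpace.map_over, AffineSpace.SpecIso_inv_over_assoc]
    rw [← Spec.map_comp_assoc]
    congr 2
    refine CommRingCat.hom_ext (RingHom.ext fun r => ?_)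
    exact MvPolynomial.rename_C _ r
  have hsq2 := ((IsPullback.of_hasPullback f₁ gn).paste_horiz hsq)
  -- the base change is a base change of the affine-space one along an open immersion
  rw [← hm] at hsq2
  have hsq3 : IsPullback (pullback.lift _ (pullback.snd f₁ gn ≫ m)
      (hsq2.w.trans (Category.assoc _ _ _).symm))
      (pullback.snd f₁ gn) (pullback.snd f (𝔸(N; S) ↘ S)) m := by
    exact IsPullback.of_right (by rwa [pullback.lift_fst]) (pullback.lift_snd _ _ _)
      (IsPullback.of_hasPullback f (𝔸(N; S) ↘ S))
  exact @IsZariskiLocalAtTarget.of_isPullback (topologically @IsClosedMap) _ _ _ _ _ _ m hopen _ _ hsq3 (h n)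

end Groth.Agent.DVRDom
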