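import Mathlib.AlgebraicGeometry.Morphisms.UniversallyClosed
import Mathlib.AlgebraicGeometry.PullbackCarrier
import Mathlib.AlgebraicGeometry.Morphisms.QuasiCompact
import Mathlib.RingTheory.TensorProduct.MvPolynomial
import Mathlib.RingTheory.MvPolynomial.Basic

/-! Universal closedness is tested on affine spaces. -/

universe u

namespace Groth.Agent.DVRDom

open CategoryTheory CategoryTheory.Limits AlgebraicGeometry
open scoped TensorProduct

section Algebra

open Algebra.TensorProduct

variable {A B C : Type*} [CommRing A] [CommRing B] [CommRing C] [Algebra A B] [Algebra A C]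

/-- Every element of a tensor product is spread out over finitely many elements of the right factor. -/
lemma exists_finset_forall_mem_range (w : C ⊗[A] B) :
    ∃ F : Finset B, ∀ {D : Type*} [CommRing D] [Algebra A D] (π : D →ₐ[A] B),
      (F : Set B) ⊆ Set.range π → w ∈ Set.range (map (AlgHom.id A C) π) := by
  classical
  induction w using TensorProduct.induction_on with
  | zero => exact ⟨∅, fun π _ => ⟨0, map_zero _⟩⟩
  | tmul c b =>
    refine ⟨{b}, fun π hπ => ?_⟩
    obtain ⟨d, rfl⟩ := hπ (Finset.mem_singleton_self b)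
    exact ⟨c ⊗ₜ d, rfl⟩
  | add x y hx hy =>
    obtain ⟨F, hF⟩ := hx
    obtain ⟨G, hG⟩ := hy
    refine ⟨F ∪ G, fun π hπ => ?_⟩
    obtain ⟨x', rfl⟩ := hF π (fun z hz => hπ (Finset.mem_union_left _ hz))
    obtain ⟨y', rfl⟩ := hG π (fun z hz => hπ (Finset.mem_union_right _ hz))
    exact ⟨x' + y', map_add _ _ _⟩

/-- Elements of the extension of an ideal of the right factor are spread out inside the extension of
its contraction. -/
lemma exists_finset_forall_lift (t : Ideal B) {q : C ⊗[A] B}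
    (hq : q ∈ t.map (includeRight : B →ₐ[A] C ⊗[A] B).toRingHom) :
    ∃ F : Finset B, ∀ {D : Type*} [CommRing D] [Algebra A D] (π : D →ₐ[A] B),
      (F : Set B) ⊆ Set.range π →
        ∃ q₀ ∈ (t.comap π.toRingHom).map (includeRight : D →ₐ[A] C ⊗[A] D).toRingHom,
          map (AlgHom.id A C) π q₀ = q := by
  classical
  rw [Ideal.map] at hq
  induction hq using Submodule.span_induction with
  | mem z hz =>
    obtain ⟨b, hb, rfl⟩ := hz
    refine ⟨{b}, fun π hπ => ?_⟩
    obtain ⟨d, rfl⟩ := hπ (Finset.mem_singleton_self b)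
    refine ⟨1 ⊗ₜ d, Ideal.mem_map_of_mem _ hb, ?_⟩
    exact map_tmul _ _ _ _
  | zero => exact ⟨∅, fun π _ => ⟨0, zero_mem _, map_zero _⟩⟩
  | add x y _ _ hx hy =>
    obtain ⟨F, hF⟩ := hx
    obtain ⟨G, hG⟩ := hy
    refine ⟨F ∪ G, fun π hπ => ?_⟩
    obtain ⟨x', hx', rfl⟩ := hF π (fun z hz => hπ (Finset.mem_union_left _ hz))
    obtain ⟨y', hy', rfl⟩ := hG π (fun z hz => hπ (Finset.mem_union_right _ hz))
    exact ⟨x' + y', add_mem hx' hy', map_add _ _ _⟩
  | smul w x _ hx =>
    obtain ⟨F, hF⟩ := hx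
    obtain ⟨G, hG⟩ := exists_finset_forall_mem_range w
    refine ⟨F ∪ G, fun π hπ => ?_⟩
    obtain ⟨x', hx', rfl⟩ := hF π (fun z hz => hπ (Finset.mem_union_left _ hz))
    obtain ⟨w', rfl⟩ := hG π (fun z hz => hπ (Finset.mem_union_right _ hz))
    exact ⟨w' * x', Ideal.mul_mem_left _ _ hx', map_mul _ _ _⟩

/-- Separation of a point of the base from a closed set: finitely many elements suffice. -/
lemma exists_finset_separating (t : Ideal B) [t.IsPrime] (I : Ideal (C ⊗[A] B))
    (h : ∀ P : Ideal (C ⊗[A] B), P.IsPrime → I ≤ P →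
      P.comap (includeRight : B →ₐ[A] C ⊗[A] B).toRingHom ≠ t) :
    ∃ F : Finset B, ∀ {D : Type*} [CommRing D] [Algebra A D] (π : D →ₐ[A] B),
      (F : Set B) ⊆ Set.range π →
        ∀ Q : Ideal (C ⊗[A] D), Q.IsPrime →
          I.comap (map (AlgHom.id A C) π).toRingHom ≤ Q →
          Q.comap (includeRight : D →ₐ[A] C ⊗[A] D).toRingHom ≠ t.comap π.toRingHom := by
  classical
  let ρ := (includeRight : B →ₐ[A] C ⊗[A] B).toRingHom
  obtain ⟨s, hs, hmem⟩ : ∃ s, s ∉ t ∧ ρ s ∈ I ⊔ t.map ρ := by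
    by_contra hno
    push Not at hno
    have hdisj : Disjoint ((I ⊔ t.map ρ : Ideal (C ⊗[A] B)) : Set (C ⊗[A] B))
        (Submonoid.map ρ t.primeCompl : Set (C ⊗[A] B)) := by
      rw [Set.disjoint_right]
      rintro _ ⟨s, hs, rfl⟩
      exact hno s hs
    obtain ⟨P, hP, hle, hdis⟩ := Ideal.exists_le_prime_disjoint _ _ hdisj
    refine h P hP (le_sup_left.trans hle) (le_antisymm (fun b hb => ?_) ?_)
    · by_contra hbt
      exact Set.disjoint_left.mp hdis hb ⟨b, hbt, rfl⟩
    · exact (Ideal.map_le_iff_le_comap.mp le_sup_right).trans (Ideal.comap_mono hle)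
  obtain ⟨e, he, q, hq, heq⟩ := Submodule.mem_sup.mp hmem
  obtain ⟨F, hF⟩ := exists_finset_forall_lift t hq
  refine ⟨insert s F, fun π hπ Q hQ hIQ hcomap => hs ?_⟩
  obtain ⟨q₀, hq₀, hqπ⟩ := hF π (fun z hz => hπ (Finset.mem_insert_of_mem hz))
  obtain ⟨S, rfl⟩ := hπ (Finset.mem_insert_self s F)
  have h1 : (1 : C) ⊗ₜ[A] S - q₀ ∈ Q := hIQ (by
    change map (AlgHom.id A C) π (1 ⊗ₜ[A] S - q₀) ∈ I
    rw [map_sub, map_tmul, hqπ]
    have h2 : (1 : C) ⊗ₜ[A] π S = e + q := heq.symm
    rw [show (AlgHom.id A C) (1 : C) = 1 from rfl, h2, add_sub_cancel_right]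
    exact he)
  have h2 : q₀ ∈ Q := (Ideal.map_le_iff_le_comap.mpr hcomap.ge) hq₀
  have h3 : (1 : C) ⊗ₜ[A] S ∈ Q := by simpa using add_mem h1 h2
  exact hcomap.le (x := S) h3

end Algebra

section Scheme

variable {X : Scheme.{u}} {A : Type u} [CommRing A] (f : X ⟶ Spec (.of A))

/-- The standard chart of a base change of `f` along an affine scheme. -/
lemma exists_chart {C : Type u} [CommRing C] [Algebra A C] (c : Spec (.of C) ⟶ X) [IsOpenImmersion c]
    (hc : c ≫ f = Spec.map (CommRingCat.ofHom (algebraMap A C))) (T : Type u) [CommRing T] [Algebra A T] :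
    ∃ Φ : Spec (.of (C ⊗[A] T)) ⟶ pullback f (Spec.map (CommRingCat.ofHom (algebraMap A T))),
      IsOpenImmersion Φ ∧
      Φ ≫ pullback.fst _ _ = Spec.map (CommRingCat.ofHom Algebra.TensorProduct.includeLeftRingHom) ≫ c ∧
      Φ ≫ pullback.snd _ _ =
        Spec.map (CommRingCat.ofHom (Algebra.TensorProduct.includeRight : T →ₐ[A] C ⊗[A] T).toRingHom) ∧
      ∀ z, (pullback.fst f (Spec.map (CommRingCat.ofHom (algebraMap A T)))) z ∈ Set.range c → z ∈ Set.range Φ := by
  let g := Spec.map (CommRingCat.ofHom (algebraMap A T))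
  have houter : IsPullback (Spec.map (CommRingCat.ofHom
      (Algebra.TensorProduct.includeRight : T →ₐ[A] C ⊗[A] T).toRingHom))
      (Spec.map (CommRingCat.ofHom Algebra.TensorProduct.includeLeftRingHom)) g (c ≫ f) := by
    rw [hc]
    refine (IsPullback.of_iso (IsPullback.of_hasPullback (Spec.map (CommRingCat.ofHom (algebraMap A C))) g)
      (pullbackSpecIso A C T) (Iso.refl _) (Iso.refl _) (Iso.refl _) ?_ ?_ (by simp) (by simp [g])).flip
    · simp [g]
    · simp [g]
  let Φ := pullback.lift (f := f) (g := g)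
    (Spec.map (CommRingCat.ofHom (Algebra.TensorProduct.includeLeftRingHom (R := A) (A := C) (B := T))) ≫ c)
    (Spec.map (CommRingCat.ofHom (Algebra.TensorProduct.includeRight : T →ₐ[A] C ⊗[A] T).toRingHom))
    (by rw [Category.assoc]; exact houter.w.symm)
  have hbot : IsPullback Φ
      (Spec.map (CommRingCat.ofHom (Algebra.TensorProduct.includeLeftRingHom (R := A) (A := C) (B := T))))
      (pullback.fst f g) c := by
    refine (IsPullback.of_right ?_ (pullback.lift_fst _ _ _) (IsPullback.of_hasPullback f g).flip)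
    rw [pullback.lift_snd]
    exact houter
  refine ⟨Φ, MorphismProperty.of_isPullback (P := @IsOpenImmersion) hbot.flip inferInstance,
    pullback.lift_fst _ _ _, pullback.lift_snd _ _ _, fun z hz => ?_⟩
  have : z ∈ Set.range (pullback.fst (pullback.fst f g) c) := by
    rw [Scheme.Pullback.range_fst]; exact hz
  obtain ⟨w, hw⟩ := this
  refine ⟨hbot.isoPullback.inv w, ?_⟩
  rw [← hw, ← Scheme.Hom.comp_apply]
  simp

/-- If `f` has closed base change to all affine spaces over the base, its base change along any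
affine scheme is closed. -/
theorem isClosedMap_snd_of_forall_mvPolynomial [QuasiCompact f]
    (h : ∀ n : ℕ, IsClosedMap (pullback.snd f (Spec.map (CommRingCat.ofHom
      (algebraMap A (MvPolynomial (Fin n) A))))))
    (B : Type u) [CommRing B] [Algebra A B] :
    IsClosedMap (pullback.snd f (Spec.map (CommRingCat.ofHom (algebraMap A B)))) := by
  classical
  intro Z hZ
  rw [← isOpen_compl_iff, isOpen_iff_forall_mem_open]
  intro t ht
  have : CompactSpace X := QuasiCompact.compactSpace_of_compactSpace f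
  let 𝒰 := X.affineCover.finiteSubcover
  let C : 𝒰.I₀ → CommRingCat.{u} := fun j => Γ(𝒰.X j, ⊤)
  have : ∀ j, IsAffine (𝒰.X j) := fun j => inferInstanceAs (IsAffine (X.affineCover.X _))
  let c : ∀ j, Spec (C j) ⟶ X := fun j => (𝒰.X j).isoSpec.inv ≫ 𝒰.f j
  let alg : ∀ j, A →+* C j := fun j => (Spec.preimage (c j ≫ f)).hom
  let _ : ∀ j, Algebra A (C j) := fun j => (alg j).toAlgebra
  have hc : ∀ j, c j ≫ f = Spec.map (CommRingCat.ofHom (algebraMap A (C j))) := fun j => by
    change _ = Spec.map (Spec.preimage (c j ≫ f))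
    rw [Spec.map_preimage]
  have hopen : ∀ j, IsOpenImmersion (c j) := fun j => by
    haveI : IsOpenImmersion (𝒰.f j) := 𝒰.map_prop j
    exact IsOpenImmersion.comp _ _
  have hchart : ∀ (j : 𝒰.I₀) (T : Type u) (i1 : CommRing T) (i2 : Algebra A T), _ :=
    fun j T i1 i2 => @exists_chart X A _ f (C j) _ (alg j).toAlgebra (c j) (hopen j) (hc j) T i1 i2
  choose Φ hΦo hΦfst hΦsnd hΦmem using hchart
  -- separating data on each chart
  let q := pullback.snd f (Spec.map (CommRingCat.ofHom (algebraMap A B)))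
  let I : ∀ j, Ideal (C j ⊗[A] B) := fun j =>
    PrimeSpectrum.vanishingIdeal ((Φ j B _ _) ⁻¹' Z)
  have hsep : ∀ j, ∀ P : Ideal (C j ⊗[A] B), P.IsPrime → I j ≤ P →
      P.comap (Algebra.TensorProduct.includeRight : B →ₐ[A] C j ⊗[A] B).toRingHom ≠ t.asIdeal := by
    intro j P hP hIP heq
    let p : PrimeSpectrum (C j ⊗[A] B) := ⟨P, hP⟩
    have hp : p ∈ (Φ j B _ _) ⁻¹' Z := by
      have hcl : IsClosed ((Φ j B _ _) ⁻¹' Z) := hZ.preimage (Φ j B _ _).continuous
      rw [← hcl.closure_eq]
      exact (PrimeSpectrum.zeroLocus_vanishingIdeal_eq_closure (R := C j ⊗[A] B) _).le hIP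
    refine ht ⟨_, hp, ?_⟩
    rw [← Scheme.Hom.comp_apply, hΦsnd]
    exact PrimeSpectrum.ext heq
  choose F hF using fun j => exists_finset_separating t.asIdeal (I j) (hsep j)
  let G : Finset B := Finset.univ.biUnion F
  let n := G.card
  let π : MvPolynomial (Fin n) A →ₐ[A] B := MvPolynomial.aeval fun i => (G.equivFin.symm i : B)
  have hπ : ∀ j, (F j : Set B) ⊆ Set.range π := fun j b hb =>
    ⟨MvPolynomial.X (G.equivFin ⟨b, Finset.mem_biUnion.mpr ⟨j, Finset.mem_univ _, hb⟩⟩), by simp [π]⟩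
  let g := Spec.map (CommRingCat.ofHom (algebraMap A B))
  let gn := Spec.map (CommRingCat.ofHom (algebraMap A (MvPolynomial (Fin n) A)))
  let sπ : Spec (CommRingCat.of B) ⟶ Spec (CommRingCat.of (MvPolynomial (Fin n) A)) :=
    Spec.map (CommRingCat.ofHom π.toRingHom)
  have hsπ : sπ ≫ gn = g := by
    rw [← Spec.map_comp]
    congr 1
    exact CommRingCat.hom_ext (RingHom.ext fun a => π.commutes a)
  let H : pullback f g ⟶ pullback f gn :=
    pullback.lift (pullback.fst f g) (pullback.snd f g ≫ sπ)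
      (by rw [Category.assoc, hsπ, pullback.condition])
  let Z₀ : Set ↥(pullback f gn) := closure (H '' Z)
  have hclosed : IsClosed (pullback.snd f gn '' Z₀) := h n _ isClosed_closure
  refine ⟨sπ ⁻¹' (pullback.snd f gn '' Z₀)ᶜ, ?_, hclosed.isOpen_compl.preimage sπ.continuous, ?_⟩
  · rintro u hu ⟨z, hz, rfl⟩
    refine hu ⟨H z, subset_closure ⟨z, hz, rfl⟩, ?_⟩
    rw [← Scheme.Hom.comp_apply, ← Scheme.Hom.comp_apply, pullback.lift_snd]
  · rintro ⟨w, hw, hwt⟩
    obtain ⟨j, v, hv⟩ : ∃ j, pullback.fst f gn w ∈ Set.range (c j) := by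
      obtain ⟨j, v, hv⟩ := 𝒰.exists_eq (pullback.fst f gn w)
      refine ⟨j, (𝒰.X j).isoSpec.hom v, ?_⟩
      simp only [c, ← Scheme.Hom.comp_apply, Iso.hom_inv_id_assoc]
      exact hv
    obtain ⟨Q, hQ⟩ := hΦmem j (MvPolynomial (Fin n) A) _ _ w ⟨v, hv⟩
    let ψ := Algebra.TensorProduct.map (AlgHom.id A (C j)) π
    let Ψ := Spec.map (CommRingCat.ofHom ψ.toRingHom)
    have hcomm : Ψ ≫ Φ j (MvPolynomial (Fin n) A) _ _ = Φ j B _ _ ≫ H := by
      apply pullback.hom_ext
      · rw [Category.assoc, Category.assoc, pullback.lift_fst, hΦfst, hΦfst,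
          ← Spec.map_comp_assoc]
        congr 2
        exact CommRingCat.hom_ext (RingHom.ext fun x => by simp [ψ])
      · rw [Category.assoc, Category.assoc, pullback.lift_snd, hΦsnd, reassoc_of% hΦsnd,
          ← Spec.map_comp, ← Spec.map_comp]
        congr 1
    have hQcl : Q ∈ closure (Ψ '' ((Φ j B _ _) ⁻¹' Z)) := by
      have : Q ∈ (Φ j (MvPolynomial (Fin n) A) _ _) ⁻¹' Z₀ := by
        rw [Set.mem_preimage, hQ]; exact hw
      refine closure_mono ?_ ((hΦo j (MvPolynomial (Fin n) A) _ _).base_open.isOpenMap.preimage_closure_subset_closure_preimage this)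
      rintro r ⟨z, hz, hzr⟩
      obtain ⟨s, hs⟩ := hΦmem j B _ _ z (by
        refine ⟨Spec.map (CommRingCat.ofHom Algebra.TensorProduct.includeLeftRingHom) r, ?_⟩
        calc c j _ = (Φ j (MvPolynomial (Fin n) A) _ _ ≫ pullback.fst f gn) r := by
              rw [hΦfst]; rfl
          _ = pullback.fst f gn (H z) := by rw [hzr]; rfl
          _ = (H ≫ pullback.fst f gn) z := rfl
          _ = _ := by rw [pullback.lift_fst])
      refine ⟨s, by rw [Set.mem_preimage, hs]; exact hz, ?_⟩
      apply (hΦo j (MvPolynomial (Fin n) A) _ _).base_open.injective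
      show (Ψ ≫ Φ j (MvPolynomial (Fin n) A) _ _) s = _
      rw [hcomm, Scheme.Hom.comp_apply, hs]
      exact hzr
    have hle : (I j).comap ψ.toRingHom ≤ Q.asIdeal := by
      intro e he
      have : closure (Ψ '' ((Φ j B _ _) ⁻¹' Z)) ⊆
          PrimeSpectrum.zeroLocus (R := C j ⊗[A] MvPolynomial (Fin n) A) {e} := by
        refine closure_minimal ?_ (PrimeSpectrum.isClosed_zeroLocus _)
        rintro _ ⟨s, hs, rfl⟩
        exact Set.singleton_subset_iff.mpr ((PrimeSpectrum.mem_vanishingIdeal _ _).mp he s hs)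
      exact this hQcl rfl
    refine hF j π (hπ j) Q.asIdeal Q.isPrime hle ?_
    have h1 : (Φ j (MvPolynomial (Fin n) A) _ _ ≫ pullback.snd f gn) Q = sπ t := by
      rw [Scheme.Hom.comp_apply, hQ]; exact hwt
    rw [hΦsnd] at h1
    exact congrArg PrimeSpectrum.asIdeal h1

/-- Universal closedness is tested on affine spaces. -/
theorem universallyClosed_of_forall_mvPolynomial [QuasiCompact f]
    (h : ∀ n : ℕ, IsClosedMap (pullback.snd f (Spec.map (CommRingCat.ofHom
      (algebraMap A (MvPolynomial (Fin n) A)))))) :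
    UniversallyClosed f := by
  refine ⟨fun X' Y' i₁ i₂ f' hsq => ?_⟩
  change topologically @IsClosedMap f'
  rw [IsZariskiLocalAtTarget.iff_of_openCover (P := topologically @IsClosedMap) Y'.affineCover]
  intro i
  let e := Y'.affineCover.f i ≫ i₂
  let B := Γ(Y'.affineCover.X i, ⊤)
  let b : Spec B ⟶ Spec (CommRingCat.of A) := (Y'.affineCover.X i).isoSpec.inv ≫ e
  let _ : Algebra A B := (Spec.preimage b).hom.toAlgebra
  have hb : b = Spec.map (CommRingCat.ofHom (algebraMap A B)) := (Spec.map_preimage b).symm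
  have hclosed := isClosedMap_snd_of_forall_mvPolynomial f h B
  rw [← hb] at hclosed
  change topologically @IsClosedMap (pullback.snd f' (Y'.affineCover.f i))
  have hsq2 : IsPullback (pullback.fst f' (Y'.affineCover.f i) ≫ i₁)
      (pullback.snd f' (Y'.affineCover.f i) ≫ (Y'.affineCover.X i).isoSpec.hom) f b := by
    refine IsPullback.of_iso ((IsPullback.of_hasPullback f' (Y'.affineCover.f i)).paste_horiz hsq.flip)
      (Iso.refl _) (Iso.refl _) (Y'.affineCover.X i).isoSpec (Iso.refl _) (by simp) (by simp) (by simp)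
      (by simp [b, e])
  have key : topologically @IsClosedMap (pullback.snd f' (Y'.affineCover.f i) ≫ (Y'.affineCover.X i).isoSpec.hom) := by
    rw [← hsq2.isoPullback_hom_snd]
    exact (MorphismProperty.cancel_left_of_respectsIso (topologically @IsClosedMap) _ _).mpr hclosed
  exact (MorphismProperty.cancel_right_of_respectsIso (topologically @IsClosedMap) _ _).mp key

end Scheme

end Groth.Agent.DVRDom
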