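import Groth.Agent.DVRDom.Scheme
import Groth.Agent.DVRDom.Spread
import Mathlib.AlgebraicGeometry.Morphisms.Proper
import Mathlib.AlgebraicGeometry.AffineSpace

/-! Valuative criteria with discrete valuation rings over a locally Noetherian base. -/

universe u

namespace Groth.Agent.DVRDom

open CategoryTheory CategoryTheory.Limits AlgebraicGeometry IsLocalRing

/-- Existence part of the valuative criterion, for discrete valuation rings. -/
def DVRExistence {X Y : Scheme.{u}} (f : X ⟶ Y) : Prop :=
  ∀ (A : Type u) [CommRing A] [IsDomain A] [IsDiscreteValuationRing A]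
    (x : Spec (.of (FractionRing A)) ⟶ X) (y : Spec (.of A) ⟶ Y),
    x ≫ f = Spec.map (CommRingCat.ofHom (algebraMap A (FractionRing A))) ≫ y →
      ∃ l : Spec (.of A) ⟶ X,
        l ≫ f = y ∧ Spec.map (CommRingCat.ofHom (algebraMap A (FractionRing A))) ≫ l = x

/-- Uniqueness part of the valuative criterion, for discrete valuation rings. -/
def DVRUniqueness {X Y : Scheme.{u}} (f : X ⟶ Y) : Prop :=
  ∀ (A : Type u) [CommRing A] [IsDomain A] [IsDiscreteValuationRing A] (g₁ g₂ : Spec (.of A) ⟶ X),
    g₁ ≫ f = g₂ ≫ f →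
      Spec.map (CommRingCat.ofHom (algebraMap A (FractionRing A))) ≫ g₁ =
        Spec.map (CommRingCat.ofHom (algebraMap A (FractionRing A))) ≫ g₂ → g₁ = g₂

lemma DVRExistence.of_isPullback {X Y X' Y' : Scheme.{u}} {f : X ⟶ Y} {f' : X' ⟶ Y'} {a : X' ⟶ X}
    {b : Y' ⟶ Y} (h : DVRExistence f) (hsq : IsPullback a f' f b) : DVRExistence f' := by
  intro A _ _ _ x y hxy
  obtain ⟨l, hl, hl'⟩ := h A (x ≫ a) (y ≫ b)
    (by rw [Category.assoc, hsq.w, reassoc_of% hxy])
  refine ⟨hsq.lift l y hl, hsq.lift_snd _ _ _, hsq.hom_ext ?_ ?_⟩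
  · rw [Category.assoc, hsq.lift_fst, hl']
  · rw [Category.assoc, hsq.lift_snd, hxy]

lemma DVRExistence.diagonal {X Y : Scheme.{u}} {f : X ⟶ Y} (h : DVRUniqueness f) :
    DVRExistence (pullback.diagonal f) := by
  intro A _ _ _ x y hxy
  have h1 := congrArg (· ≫ pullback.fst f f) hxy
  have h2 := congrArg (· ≫ pullback.snd f f) hxy
  simp only [Category.assoc, pullback.diagonal_fst, pullback.diagonal_snd, Category.comp_id] at h1 h2
  have := h A (y ≫ pullback.fst f f) (y ≫ pullback.snd f f)
    (by simp [Category.assoc, pullback.condition]) (h1.symm.trans h2)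
  refine ⟨y ≫ pullback.fst f f, ?_, h1.symm⟩
  apply pullback.hom_ext <;> simp [this]

theorem DVRExistence.specializingMap {X Y : Scheme.{u}} [IsLocallyNoetherian Y] {f : X ⟶ Y}
    [LocallyOfFiniteType f] (h : DVRExistence f) : SpecializingMap f := by
  intro x y' hsp
  rcases eq_or_ne y' (f x) with rfl | hne
  · exact ⟨x, specializes_rfl, rfl⟩
  obtain ⟨A, g, hA, hg, hcomm⟩ := exists_dvr_through_specialization f x y' hsp hne
  let e : X.residueField x ≃ₐ[A] FractionRing A := (FractionRing.algEquiv A (X.residueField x)).symm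
  have he : CommRingCat.ofHom A.subtype ≫ CommRingCat.ofHom (e : X.residueField x →+* FractionRing A) =
      CommRingCat.ofHom (algebraMap A (FractionRing A)) :=
    CommRingCat.hom_ext (RingHom.ext fun a => e.commutes a)
  obtain ⟨l, hl, hl'⟩ := h A (Spec.map (CommRingCat.ofHom (e : X.residueField x →+* FractionRing A)) ≫
      X.fromSpecResidueField x) g (by rw [← he, Spec.map_comp, Category.assoc, Category.assoc, hcomm])
  refine ⟨l (closedPoint A), ?_, ?_⟩
  · have h1 := congrArg (fun q => q (closedPoint (FractionRing A))) hl'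
    simp only [Scheme.Hom.comp_apply] at h1
    have h3 := h1.trans (Scheme.fromSpecResidueField_apply x _)
    have hs := (IsLocalRing.specializes_closedPoint (R := A)
      (Spec.map (CommRingCat.ofHom (algebraMap A (FractionRing A))) (closedPoint (FractionRing A)))).map l.continuous
    show x ⤳ l (closedPoint A)
    rw [h3] at hs
    exact hs
  · rw [← Scheme.Hom.comp_apply, hl]
    exact hg

theorem DVRExistence.universallyClosed {X Y : Scheme.{u}} [IsLocallyNoetherian Y] {f : X ⟶ Y}
    [LocallyOfFiniteType f] [QuasiCompact f] (h : DVRExistence f) : UniversallyClosed f := by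
  rw [IsZariskiLocalAtTarget.iff_of_openCover (P := @UniversallyClosed) Y.affineCover]
  intro i
  change UniversallyClosed (pullback.snd f (Y.affineCover.f i))
  let f₁ := pullback.snd f (Y.affineCover.f i) ≫ (Y.affineCover.X i).isoSpec.hom
  suffices UniversallyClosed f₁ from
    (MorphismProperty.cancel_right_of_respectsIso @UniversallyClosed _ _).mp this
  have : IsLocallyNoetherian (Y.affineCover.X i) :=
    isLocallyNoetherian_of_isOpenImmersion (Y.affineCover.f i)
  have : IsNoetherianRing Γ(Y.affineCover.X i, ⊤) :=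
    IsLocallyNoetherian.component_noetherian ⟨⊤, isAffineOpen_top _⟩
  have hf₁ : DVRExistence f₁ := h.of_isPullback
    (IsPullback.of_iso (IsPullback.of_hasPullback f (Y.affineCover.f i)) (Iso.refl _) (Iso.refl _)
      (Y.affineCover.X i).isoSpec (Iso.refl _) (fst' := pullback.fst f (Y.affineCover.f i))
      (snd' := f₁) (f' := f) (g' := (Y.affineCover.X i).isoSpec.inv ≫ Y.affineCover.f i)
      (by simp) (by simp [f₁]) (by simp) (by simp))
  have this_lft : LocallyOfFiniteType f₁ := by dsimp [f₁]; infer_instance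
  have : QuasiCompact f₁ := by dsimp [f₁]; infer_instance
  refine universallyClosed_of_forall_mvPolynomial f₁ fun n => ?_
  have : IsNoetherianRing (CommRingCat.of (MvPolynomial (Fin n) Γ(Y.affineCover.X i, ⊤))) :=
    inferInstanceAs (IsNoetherianRing (MvPolynomial (Fin n) Γ(Y.affineCover.X i, ⊤)))
  rw [isClosedMap_iff_specializingMap]
  have hT : IsLocallyNoetherian
      (Spec (CommRingCat.of (MvPolynomial (Fin n) Γ(Y.affineCover.X i, ⊤)))) :=
    @isLocallyNoetherian_Spec (CommRingCat.of (MvPolynomial (Fin n) Γ(Y.affineCover.X i, ⊤))) |>.mpr this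
  exact @DVRExistence.specializingMap _ _ hT _
    (MorphismProperty.pullback_snd (P := @LocallyOfFiniteType) f₁ _ this_lft)
    (hf₁.of_isPullback (IsPullback.of_hasPullback _ _))

theorem isSeparated_iff_dvr {X Y : Scheme.{u}} [IsLocallyNoetherian Y] (f : X ⟶ Y)
    [LocallyOfFiniteType f] : IsSeparated f ↔ DVRUniqueness f := by
  refine ⟨fun _ A _ _ _ g₁ g₂ h1 h2 => ?_, fun h => ⟨?_⟩⟩
  · have := IsSeparated.valuativeCriterion f
      ⟨A, FractionRing A, _, g₁ ≫ f, ⟨(Category.assoc _ g₁ f)⟩⟩
    exact congrArg CommSq.LiftStruct.l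
      (this.elim ⟨g₁, rfl, rfl⟩ ⟨g₂, h2.symm, h1.symm⟩)
  · have : IsLocallyNoetherian X := LocallyOfFiniteType.isLocallyNoetherian f
    have : IsLocallyNoetherian (pullback f f) :=
      LocallyOfFiniteType.isLocallyNoetherian (pullback.fst f f)
    have : UniversallyClosed (pullback.diagonal f) := (DVRExistence.diagonal h).universallyClosed
    exact .of_isPreimmersion _ (pullback.diagonal f).isClosedMap.isClosed_range

theorem isProper_iff_dvr {X Y : Scheme.{u}} [IsLocallyNoetherian Y] (f : X ⟶ Y)
    [LocallyOfFiniteType f] [QuasiCompact f] :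
    IsProper f ↔ DVRExistence f ∧ DVRUniqueness f := by
  refine ⟨fun _ => ⟨fun A _ _ _ x y hxy => ?_, (isSeparated_iff_dvr f).mp inferInstance⟩, fun ⟨h1, h2⟩ => ?_⟩
  · have hE : ValuativeCriterion.Existence f := by
      have hu : UniversallyClosed f := inferInstance
      rw [UniversallyClosed.eq_valuativeCriterion] at hu
      exact hu.1
    exact let ⟨l, hl1, hl2⟩ := (hE ⟨A, FractionRing A, x, y, ⟨hxy⟩⟩).exists_lift; ⟨l, hl2, hl1⟩
  · have := h1.universallyClosed
    have := (isSeparated_iff_dvr f).mpr h2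
    exact {}

theorem universallyClosed_iff_dvr {X Y : Scheme.{u}} [IsLocallyNoetherian Y] (f : X ⟶ Y)
    [LocallyOfFiniteType f] [QuasiCompact f] : UniversallyClosed f ↔ DVRExistence f := by
  refine ⟨fun hu A _ _ _ x y hxy => ?_, fun h => h.universallyClosed⟩
  rw [UniversallyClosed.eq_valuativeCriterion] at hu
  exact let ⟨l, hl1, hl2⟩ := (hu.1 ⟨A, FractionRing A, x, y, ⟨hxy⟩⟩).exists_lift; ⟨l, hl2, hl1⟩

end Groth.Agent.DVRDom
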