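import Mathlib.RingTheory.OrderOfVanishing.Noetherian
import Mathlib.RingTheory.Valuation.LocalSubring
import Mathlib.RingTheory.Ideal.KrullsHeightTheorem
import Mathlib.RingTheory.Localization.AsSubring
import Mathlib.RingTheory.FiniteType

/-! Existence of discrete valuation rings dominating Noetherian rings. -/

namespace Groth.Agent.DVRDom

open IsLocalRing

/-- Key length bound: chains of principal ideals of `V` above a nonzero element of `C` are bounded. -/
theorem exists_chain_bound {C K : Type*} [CommRing C] [IsDomain C]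
    [IsNoetherianRing C] [Ring.KrullDimLE 1 C] [Field K] [Algebra C K] [IsFractionRing C K]
    (V : ValuationSubring K) (hCV : ∀ c : C, algebraMap C K c ∈ V) (a : C) (ha : a ≠ 0) :
    ∃ N : ℕ, ∀ (k : ℕ) (v : Fin (k + 1) → V), ((v 0 : V) : K) = algebraMap C K a →
      StrictMono (fun i => Ideal.span {v i}) → k ≤ N := by
  classical
    have hne := Ring.ord_ne_top (R := C) (mem_nonZeroDivisors_of_ne_zero ha)
  obtain ⟨N, hN⟩ := ENat.ne_top_iff_exists.mp hne
  refine ⟨N, fun k v hv0 hmono => ?_⟩
  obtain ⟨⟨d, hd⟩, hdv⟩ := IsLocalization.exist_integer_multiples_of_finite (nonZeroDivisors C)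
    (fun i => ((v i : V) : K))
  choose w hw using fun i => hdv i
  have hd0 : algebraMap C K d ≠ 0 := IsFractionRing.to_map_ne_zero_of_mem_nonZeroDivisors hd
  have hw' : ∀ i, algebraMap C K (w i) = algebraMap C K d * (v i : K) := fun i => by
    simpa [Algebra.smul_def] using hw i
  -- the ideal and its chain
  let I : Ideal C := Ideal.span (Set.range w)
  let aI : Ideal C := Ideal.span {a} * I
  let J : Fin (k + 1) → Ideal C := fun i => Ideal.span (w '' {j | j ≤ i}) ⊔ aI
  have haI_le : aI ≤ I := Ideal.mul_le.mpr fun p _ q hq => I.mul_mem_left p hq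
  have hJle : ∀ i, J i ≤ I := fun i => sup_le (Ideal.span_mono (Set.image_subset_range _ _)) haI_le
  have hle : ∀ i j, i ≤ j → Ideal.span {v i} ≤ Ideal.span {v j} := fun i j h => hmono.monotone h
  -- elements of `J i` are in `d v_i V`
  have hJmem : ∀ i, ∀ x ∈ J i, ∃ r : V, algebraMap C K x = algebraMap C K d * ((r * v i : V) : K) := by
    intro i x hx
    let S : Submodule C C :=
      { carrier := {x | ∃ r : V, algebraMap C K x = algebraMap C K d * ((r * v i : V) : K)}
        zero_mem' := ⟨0, by simp⟩
        add_mem' := by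
          rintro p q ⟨r, hr⟩ ⟨s, hs⟩
          exact ⟨r + s, by rw [map_add, hr, hs]; push_cast; ring⟩
        smul_mem' := by
          rintro c p ⟨r, hr⟩
          exact ⟨⟨_, hCV c⟩ * r, by rw [smul_eq_mul, map_mul, hr]; push_cast; ring⟩ }
    have h1 : ∀ j, j ≤ i → w j ∈ S := fun j hj => by
      obtain ⟨r, hr⟩ := Ideal.mem_span_singleton'.mp (hle j i hj (Ideal.mem_span_singleton_self _))
      exact ⟨r, by rw [hw' j, hr]⟩
    have : J i ≤ (S : Ideal C) := by
      refine sup_le (Ideal.span_le.mpr ?_) (Ideal.mul_le.mpr fun p hp q hq => ?_)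
      · rintro _ ⟨j, hj, rfl⟩
        exact h1 j hj
      · obtain ⟨p', rfl⟩ := Ideal.mem_span_singleton'.mp hp
        have hq' : q ∈ I := hq
        clear hq hp
        induction hq' using Submodule.span_induction with
        | mem z hz =>
          obtain ⟨j, rfl⟩ := hz
          obtain ⟨r, hr⟩ := Ideal.mem_span_singleton'.mp (hle 0 i (Fin.zero_le _) (Ideal.mem_span_singleton_self _))
          refine ⟨⟨_, hCV p'⟩ * v j * r, ?_⟩
          rw [map_mul, map_mul, hw' j, ← hv0, ← hr]
          push_cast
          ring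
        | zero => simpa using S.zero_mem
        | add z₁ z₂ _ _ hz₁ hz₂ => rw [mul_add]; exact S.add_mem hz₁ hz₂
        | smul c z _ hz =>
          rw [smul_eq_mul, mul_left_comm]
          exact S.smul_mem c hz
    exact this hx
  have hJ : StrictMono J := by
    intro i j hij
    refine lt_of_le_of_ne (sup_le_sup_right (Ideal.span_mono (Set.image_mono fun l hl => le_trans hl hij.le)) _) fun he => ?_
    have hwj : w j ∈ J i := he ▸ Ideal.mem_sup_left (Ideal.subset_span ⟨j, le_refl j, rfl⟩)
    obtain ⟨r, hr⟩ := hJmem i _ hwj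
    rw [hw' j] at hr
    have : v j = r * v i := Subtype.ext (mul_left_cancel₀ hd0 hr)
    exact (hmono hij).not_ge (Ideal.span_le.mpr (by
      simp only [Set.singleton_subset_iff]
      exact Ideal.mem_span_singleton'.mpr ⟨r, this.symm⟩))
  -- lengths
  have hI0 : w 0 ≠ 0 := fun h => by
    have h' := hw' 0
    rw [h, map_zero, hv0] at h'
    exact mul_ne_zero hd0 (fun h'' => ha (IsFractionRing.to_map_eq_zero_iff.mp h'')) h'.symm
  have hfinI : Module.length C (C ⧸ I) ≠ ⊤ := by
    refine ne_top_of_le_ne_top (Ring.ord_ne_top (R := C) (mem_nonZeroDivisors_of_ne_zero hI0)) ?_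
    exact Module.length_le_of_surjective
      (Submodule.factor (show Ideal.span {w 0} ≤ I from Ideal.span_mono (by simp)))
      (Submodule.factor_surjective _)
  let S : Submodule C (C ⧸ aI) := Submodule.map (Submodule.mkQ aI) I
  have hS1 : Module.length C (C ⧸ aI) = Module.length C S + Module.length C (C ⧸ I) := by
    refine Module.length_eq_add_of_exact S.subtype (Submodule.factor haI_le) S.subtype_injective
      (Submodule.factor_surjective _) ?_
    rw [LinearMap.exact_iff, Submodule.range_subtype]
    refine le_antisymm (fun x hx => ?_) ?_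
    · obtain ⟨x, rfl⟩ := Submodule.Quotient.mk_surjective _ x
      refine ⟨x, ?_, rfl⟩
      have : Submodule.Quotient.mk (p := I) x = 0 := hx
      exact (Submodule.Quotient.mk_eq_zero _).mp this
    · rintro _ ⟨x, hx, rfl⟩
      exact (Submodule.Quotient.mk_eq_zero _).mpr hx
  have hS2 : Module.length C (C ⧸ aI) = Module.length C (C ⧸ I) + Ring.ord C a := by
    have hmem : I ≤ Submodule.comap (LinearMap.mulLeft C a) aI := fun x hx =>
      Ideal.mul_mem_mul (Ideal.mem_span_singleton_self a) hx
    refine Module.length_eq_add_of_exact (Submodule.mapQ I aI (LinearMap.mulLeft C a) hmem)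
      (Submodule.factor (show aI ≤ Ideal.span {a} from Ideal.mul_le.mpr fun p hp q _ => Ideal.mul_mem_right q _ hp)) ?_
      (Submodule.factor_surjective _) ?_
    · rw [← LinearMap.ker_eq_bot, Submodule.eq_bot_iff]
      intro x hx
      obtain ⟨x, rfl⟩ := Submodule.Quotient.mk_surjective _ x
      have : a * x ∈ aI := (Submodule.Quotient.mk_eq_zero _).mp hx
      obtain ⟨y, hy, hyx⟩ := Ideal.mem_span_singleton_mul.mp this
      rw [mul_right_inj' ha] at hyx
      exact (Submodule.Quotient.mk_eq_zero _).mpr (hyx ▸ hy)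
    · rw [LinearMap.exact_iff]
      refine le_antisymm (fun x hx => ?_) ?_
      · obtain ⟨x, rfl⟩ := Submodule.Quotient.mk_surjective _ x
        obtain ⟨y, rfl⟩ := Ideal.mem_span_singleton'.mp ((Submodule.Quotient.mk_eq_zero _).mp hx)
        exact ⟨Submodule.Quotient.mk y, congrArg Submodule.Quotient.mk (mul_comm a y)⟩
      · rintro _ ⟨x, rfl⟩
        obtain ⟨x, rfl⟩ := Submodule.Quotient.mk_surjective _ x
        exact (Submodule.Quotient.mk_eq_zero _).mpr (Ideal.mul_mem_right _ _ (Ideal.mem_span_singleton_self a))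
  have hSlen : Module.length C S ≤ N := by
    rw [hN]
    rw [hS1, add_comm] at hS2
    exact le_of_eq ((ENat.addLECancellable_of_ne_top hfinI).inj.mp hS2)
  -- the chain inside `S`
  let T : Fin (k + 1) → Submodule C S := fun i =>
    Submodule.comap S.subtype (Submodule.map (Submodule.mkQ aI) (J i))
  have hT : StrictMono T := by
    intro i j hij
    refine lt_of_le_of_ne (Submodule.comap_mono (Submodule.map_mono (hJ.monotone hij.le))) fun he => ?_
    have hle' : ∀ l, Submodule.map (Submodule.mkQ aI) (J l) ≤ LinearMap.range S.subtype := fun l => by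
      rw [Submodule.range_subtype]; exact Submodule.map_mono (hJle l)
    have he' := congrArg (Submodule.map S.subtype) he
    rw [Submodule.map_comap_eq_of_le (hle' i), Submodule.map_comap_eq_of_le (hle' j)] at he'
    have he'' := congrArg (Submodule.comap (Submodule.mkQ aI)) he'
    rw [Submodule.comap_map_mkQ, Submodule.comap_map_mkQ] at he''
    have h1 : ∀ l, aI ⊔ J l = J l := fun l => sup_eq_right.mpr le_sup_right
    rw [h1, h1] at he''
    exact (hJ hij).ne he''
  have : ((⟨k, T, fun i => hT (Fin.castSucc_lt_succ (i := i))⟩ : LTSeries (Submodule C S)).length : ℕ∞) ≤ N := by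
    refine le_trans ?_ hSlen
    have h3 := Order.LTSeries.length_le_krullDim
      (⟨k, T, fun i => hT (Fin.castSucc_lt_succ (i := i))⟩ : LTSeries (Submodule C S))
    rw [← Module.coe_length] at h3
    exact WithBot.coe_le_coe.mp h3
  exact_mod_cast this

/-- A valuation subring, other than the field, of the fraction field of a one-dimensional Noetherian
domain and containing it, is discrete (Krull–Akizuki for valuation rings). -/
theorem isDiscreteValuationRing_of_krullDimLE_one {C K : Type*} [CommRing C] [IsDomain C]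
    [IsNoetherianRing C] [Ring.KrullDimLE 1 C] [Field K] [Algebra C K] [IsFractionRing C K]
    (V : ValuationSubring K) (hCV : ∀ c : C, algebraMap C K c ∈ V) (hV : ∃ x : K, x ∉ V) :
    IsDiscreteValuationRing V := by
  classical
  have bound := fun (a : C) (ha : a ≠ 0) => exists_chain_bound V hCV a ha
  have mem_range : ∀ J : Ideal V, J ≠ ⊥ → ∃ a : C, a ≠ 0 ∧ ∃ h : algebraMap C K a ∈ V, (⟨_, h⟩ : V) ∈ J := by
    intro J hJ
    obtain ⟨x, hxJ, hx⟩ := Submodule.exists_mem_ne_zero_of_ne_bot hJ
    obtain ⟨c, e, he, hce⟩ := IsFractionRing.div_surjective C (x : K)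
    refine ⟨c, ?_, hCV c, ?_⟩
    · rintro rfl
      exact hx (Subtype.ext (by simpa using hce.symm))
    · have : (⟨_, hCV c⟩ : V) = x * ⟨_, hCV e⟩ := Subtype.ext (by
        push_cast
        rw [← hce, div_mul_cancel₀ _ (IsFractionRing.to_map_ne_zero_of_mem_nonZeroDivisors he)])
      rw [this]
      exact J.mul_mem_right _ hxJ
  have : IsPrincipalIdealRing V := by
    refine ⟨fun J => ?_⟩
    rcases eq_or_ne J ⊥ with rfl | hJ
    · exact bot_isPrincipal
    obtain ⟨a, ha, hh, haJ⟩ := mem_range J hJ
    obtain ⟨N, hN⟩ := bound a ha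
    by_contra hne
    have step : ∀ y : V, y ∈ J → ∃ z : V, z ∈ J ∧ Ideal.span {y} < Ideal.span {z} := by
      intro y hy
      obtain ⟨z, hz, hzy⟩ := SetLike.exists_of_lt (lt_of_le_of_ne
        ((Ideal.span_singleton_le_iff_mem _).mpr hy) fun h => hne ⟨⟨y, h.symm⟩⟩)
      refine ⟨z, hz, lt_of_le_of_ne ?_ fun h => hzy (h ▸ Ideal.mem_span_singleton_self z)⟩
      rcases ValuationRing.dvd_total y z with h | h
      · exact absurd (Ideal.mem_span_singleton.mpr h) hzy
      · exact Ideal.span_singleton_le_span_singleton.mpr h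
    have hseq : ∀ n : ℕ, ∃ v : Fin (n + 1) → V, ((v 0 : V) : K) = algebraMap C K a ∧
        StrictMono (fun i => Ideal.span {v i}) ∧ v (Fin.last n) ∈ J := by
      intro n
      induction n with
      | zero =>
        refine ⟨fun _ => ⟨_, hh⟩, rfl, ?_, haJ⟩
        intro i j hij
        exact absurd hij (by omega)
      | succ n ih =>
        obtain ⟨v, hv0, hv, hlast⟩ := ih
        obtain ⟨z, hz, hlt⟩ := step _ hlast
        refine ⟨Fin.snoc v z, ?_, ?_, ?_⟩
        · rw [← Fin.castSucc_zero, Fin.snoc_castSucc]; exact hv0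
        · refine Fin.strictMono_iff_lt_succ.mpr fun i => ?_
          induction i using Fin.lastCases with
          | last => simpa using hlt
          | cast i =>
            simp only [Fin.snoc_castSucc, Fin.succ_castSucc]
            exact hv (Fin.castSucc_lt_succ (i := i))
        · simpa using hz
    obtain ⟨v, hv0, hv, -⟩ := hseq (N + 1)
    have := hN (N + 1) v hv0 hv
    omega
  obtain ⟨x, hx⟩ := hV
  refine { not_a_field' := fun h => hx ?_ }
  rcases V.mem_or_inv_mem x with h' | h'
  · exact h'
  · have hu : IsUnit (⟨x⁻¹, h'⟩ : V) := by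
      by_contra hu
      have := (mem_maximalIdeal _).mpr hu
      rw [h, Ideal.mem_bot] at this
      have : x = 0 := inv_eq_zero.mp (congrArg Subtype.val this)
      exact hx (this ▸ V.zero_mem)
    obtain ⟨u, hu⟩ := hu
    have h1 : ((u : V) : K) * ((u⁻¹ : Vˣ) : V) = 1 := congrArg Subtype.val u.mul_inv
    rw [hu] at h1
    have hxeq : (((u⁻¹ : Vˣ) : V) : K) = x := by
      rcases eq_or_ne x 0 with rfl | h0
      · simp at h1
      · calc _ = x * (x⁻¹ * (((u⁻¹ : Vˣ) : V) : K)) := by rw [← mul_assoc, mul_inv_cancel₀ h0, one_mul]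
          _ = x := by rw [h1, mul_one]
    exact hxeq ▸ Subtype.prop _

/-- Main construction: `A` Noetherian, `L` generated as a field by the image of `A` and a finite set,
`W` a valuation subring containing the image of `A`, and finitely many elements of the nonunits of
`W`, one of them non-zero. Then some discrete valuation subring contains the image of `A` and has
all these elements among its nonunits. -/
theorem exists_dvr_of_valuationSubring {A L : Type*} [CommRing A] [IsNoetherianRing A] [Field L]
    [Algebra A L] (s : Finset L) (hs : Subfield.closure (Set.range (algebraMap A L) ∪ s) = ⊤)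
    (W : ValuationSubring L) (hAW : ∀ a : A, algebraMap A L a ∈ W)
    (J : Finset L) (hJ : ∀ x ∈ J, x ∈ W.nonunits) (hJ0 : ∃ x ∈ J, x ≠ 0) :
    ∃ R : ValuationSubring L, IsDiscreteValuationRing R ∧ (∀ a : A, algebraMap A L a ∈ R) ∧
      ∀ x ∈ J, x ∈ R.nonunits := by
  classical
  obtain ⟨x₀, hx₀J, hmax⟩ := Finset.exists_max_image J W.valuation (let ⟨x, hx, _⟩ := hJ0; ⟨x, hx⟩)
  have hx₀ : x₀ ≠ 0 := by
    rintro rfl
    obtain ⟨x, hx, hx0⟩ := hJ0
    have := hmax x hx
    rw [map_zero, nonpos_iff_eq_zero, Valuation.zero_iff] at this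
    exact hx0 this
  let t : Finset L := s.image fun x => if x ∈ W then x else x⁻¹
  let G : Finset L := t ∪ J ∪ J.image (· / x₀)
  have hGW : ∀ x ∈ G, x ∈ W := by
    intro x hx
    simp only [G, t, Finset.mem_union, Finset.mem_image] at hx
    rcases hx with (⟨y, -, rfl⟩ | hx) | ⟨y, hy, rfl⟩
    · split_ifs with h
      · exact h
      · exact (W.mem_or_inv_mem y).resolve_left h
    · exact ValuationSubring.nonunits_subset (hJ x hx)
    · rw [← W.valuation_le_one_iff, map_div₀]
      exact div_le_one_of_le₀ (hmax y hy) zero_le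
  let A' : Subalgebra A L := Algebra.adjoin A (G : Set L)
  have hA'W : ∀ x ∈ A', x ∈ W := fun x hx => by
    induction hx using Algebra.adjoin_induction with
    | mem y hy => exact hGW y hy
    | algebraMap a => exact hAW a
    | add y z _ _ hy hz => exact W.add_mem _ _ hy hz
    | mul y z _ _ hy hz => exact W.mul_mem _ _ hy hz
  have hft : Algebra.FiniteType A A' :=
    (Subalgebra.fg_iff_finiteType A').mp (Subalgebra.fg_adjoin_finset G)
  have : IsNoetherianRing A' := Algebra.FiniteType.isNoetherianRing A A'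
  have hfrac : IsFractionRing A' L := by
    refine IsFractionRing.of_field A' L fun z => ?_
    let F : Subfield L :=
      { carrier := {z | ∃ b c : A', z = (b : L) / (c : L)}
        mul_mem' := by
          rintro _ _ ⟨b, c, rfl⟩ ⟨b', c', rfl⟩
          exact ⟨b * b', c * c', by push_cast; rw [div_mul_div_comm]⟩
        one_mem' := ⟨1, 1, by simp⟩
        add_mem' := by
          rintro _ _ ⟨b, c, rfl⟩ ⟨b', c', rfl⟩
          rcases eq_or_ne (c : L) 0 with hc | hc
          · exact ⟨b', c', by simp [hc]⟩
          rcases eq_or_ne (c' : L) 0 with hc' | hc'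
          · exact ⟨b, c, by simp [hc']⟩
          exact ⟨b * c' + c * b', c * c', by push_cast; rw [div_add_div _ _ hc hc']⟩
        zero_mem' := ⟨0, 1, by simp⟩
        neg_mem' := by
          rintro _ ⟨b, c, rfl⟩
          exact ⟨-b, c, by push_cast; rw [neg_div]⟩
        inv_mem' := by
          rintro _ ⟨b, c, rfl⟩
          exact ⟨c, b, by rw [inv_div]⟩ }
    have hF : Subfield.closure (Set.range (algebraMap A L) ∪ s) ≤ F := by
      rw [Subfield.closure_le]
      rintro x (⟨a, rfl⟩ | hx)
      · exact ⟨algebraMap A A' a, 1, by simp⟩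
      · have hmem : (if x ∈ W then x else x⁻¹) ∈ A' := Algebra.subset_adjoin (by
          simp only [G, t, Finset.coe_union, Finset.coe_image, Set.mem_union, Set.mem_image]
          exact Or.inl (Or.inl ⟨x, hx, rfl⟩))
        by_cases h : x ∈ W
        · rw [if_pos h] at hmem
          exact ⟨⟨x, hmem⟩, 1, by simp⟩
        · rw [if_neg h] at hmem
          exact ⟨1, ⟨x⁻¹, hmem⟩, by simp⟩
    rw [hs] at hF
    obtain ⟨b, c, hz⟩ := hF (show z ∈ (⊤ : Subfield L) from trivial)
    exact ⟨b, c, hz⟩
  have hmemA' : ∀ x ∈ J, x ∈ A' := fun x hx => Algebra.subset_adjoin (by simp [G, hx])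
  let y₀ : A' := ⟨x₀, hmemA' x₀ hx₀J⟩
  have hne : Ideal.span {y₀} ≠ ⊤ := by
    intro h
    obtain ⟨b, hb⟩ := Ideal.mem_span_singleton'.mp (h ▸ Submodule.mem_top (x := (1 : A')))
    have hb' : (b : L) * x₀ = 1 := congrArg Subtype.val hb
    have h1 : W.valuation x₀ < 1 := (hJ x₀ hx₀J)
    have h2 : W.valuation (b : L) ≤ 1 := (W.valuation_le_one_iff _).mpr (hA'W _ b.2)
    have h3 := congrArg W.valuation hb'
    rw [map_mul, map_one] at h3
    exact (mul_lt_one_of_nonneg_of_lt_one_right h2 zero_le h1).ne h3
  obtain ⟨M, hM, hMle⟩ := Ideal.exists_le_maximal _ hne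
  obtain ⟨P, hP, -⟩ := Ideal.exists_minimalPrimes_le hMle
  have hPprime : P.IsPrime := hP.1.1
  have hy₀P : y₀ ∈ P := hP.1.2 (Ideal.mem_span_singleton_self y₀)
  let C := Localization.subalgebra.ofField L P.primeCompl P.primeCompl_le_nonZeroDivisors
  have hloc : IsLocalization.AtPrime C P := inferInstance
  have : IsLocalRing C := IsLocalization.AtPrime.isLocalRing C P
  have : IsNoetherianRing C := IsLocalization.isNoetherianRing P.primeCompl C inferInstance
  have : Ring.KrullDimLE 1 C := by
    rw [Ring.krullDimLE_iff, IsLocalization.AtPrime.ringKrullDim_eq_height P C]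
    exact_mod_cast Ideal.height_le_one_of_isPrincipal_of_mem_minimalPrimes (Ideal.span {y₀}) P hP
  obtain ⟨R, hCR, hR⟩ := Ideal.image_subset_nonunits_valuationSubring
    (A := C.toSubring) (IsLocalRing.maximalIdeal C) (IsLocalRing.maximalIdeal.isMaximal C).ne_top
  have hA'R : ∀ z ∈ A', z ∈ R := fun z hz => hCR (C.algebraMap_mem ⟨z, hz⟩)
  have hPR : ∀ z : A', z ∈ P → (z : L) ∈ R.nonunits := fun z hz =>
    hR ⟨algebraMap A' C z, (IsLocalization.AtPrime.to_map_mem_maximal_iff C P z).mpr hz, rfl⟩
  refine ⟨R, ?_, fun a => hA'R _ (A'.algebraMap_mem a), fun x hx => ?_⟩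
  · refine isDiscreteValuationRing_of_krullDimLE_one (C := C) (K := L) R (fun c => hCR c.2)
      ⟨x₀⁻¹, fun h => ?_⟩
    rcases (R.mem_nonunits_iff_or).mp (hPR y₀ hy₀P) with h' | h'
    · exact hx₀ h'
    · exact h' h
  · have hdiv : x / x₀ ∈ A' := Algebra.subset_adjoin (by
      simp only [G, Finset.coe_union, Finset.coe_image, Set.mem_union, Set.mem_image]
      exact Or.inr ⟨x, hx, rfl⟩)
    have : (⟨x, hmemA' x hx⟩ : A') = ⟨x / x₀, hdiv⟩ * y₀ :=
      Subtype.ext (show x = x / x₀ * x₀ by rw [div_mul_cancel₀ _ hx₀])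
    exact hPR ⟨x, hmemA' x hx⟩ (this ▸ P.mul_mem_left _ hy₀P)

end Groth.Agent.DVRDom
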