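import Groth.Agent.DVRDom.Criterion
import Mathlib.AlgebraicGeometry.FunctionField

/-! Properness of a dominant morphism of integral schemes from valuations of the function field. -/

universe u

namespace Groth.Agent.DVRDom

open CategoryTheory CategoryTheory.Limits AlgebraicGeometry IsLocalRing

/-- Two morphisms from a valuation ring to a separated scheme agreeing at the generic point agree. -/
lemma hom_ext_of_valuationRing {Z : Scheme.{u}} [Z.IsSeparated] {R K : Type u} [CommRing R] [IsDomain R]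
    [ValuationRing R] [Field K] [Algebra R K] [IsFractionRing R K] (g₁ g₂ : Spec (.of R) ⟶ Z)
    (h : Spec.map (CommRingCat.ofHom (algebraMap R K)) ≫ g₁ = Spec.map (CommRingCat.ofHom (algebraMap R K)) ≫ g₂) :
    g₁ = g₂ := by
  have := IsSeparated.valuativeCriterion (terminal.from Z)
    ⟨R, K, _, g₁ ≫ terminal.from Z, ⟨(Category.assoc _ g₁ (terminal.from Z))⟩⟩
  exact congrArg CommSq.LiftStruct.l
    (this.elim ⟨g₁, rfl, rfl⟩ ⟨g₂, h.symm, terminal.hom_ext _ _⟩)

/-- Two morphisms from a valuation subring to a separated scheme agreeing at the generic point agree. -/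
lemma hom_ext_of_valuationSubring {Z : Scheme.{u}} [Z.IsSeparated] {K : Type u} [Field K]
    (V : ValuationSubring K) (g₁ g₂ : Spec (.of V) ⟶ Z)
    (h : Spec.map (CommRingCat.ofHom V.subtype) ≫ g₁ = Spec.map (CommRingCat.ofHom V.subtype) ≫ g₂) :
    g₁ = g₂ :=
  hom_ext_of_valuationRing (K := K) g₁ g₂ h

variable {X Y : Scheme.{u}} [IsIntegral X]

/-- The valuation subring `V` of the function field has a center on `X`. -/
def HasCenter (V : ValuationSubring X.functionField) : Prop :=
  ∃ l : Spec (.of V) ⟶ X,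
    Spec.map (CommRingCat.ofHom V.subtype) ≫ l = X.fromSpecStalk (genericPoint X)

/-- `V` lies over a point of `Y`. -/
def LiesOver (f : X ⟶ Y) (V : ValuationSubring X.functionField) : Prop :=
  ∃ m : Spec (.of V) ⟶ Y,
    Spec.map (CommRingCat.ofHom V.subtype) ≫ m = X.fromSpecStalk (genericPoint X) ≫ f

lemma hasCenter_of_dominates (V : ValuationSubring X.functionField) (x : X)
    (h : ∀ a : X.presheaf.stalk x, algebraMap (X.presheaf.stalk x) X.functionField a ∈ V) :
    HasCenter V := by
  refine ⟨Spec.map (CommRingCat.ofHom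
    ((algebraMap (X.presheaf.stalk x) X.functionField).codRestrict V.toSubring h)) ≫ X.fromSpecStalk x, ?_⟩
  rw [← Spec.map_comp_assoc,
    ← Scheme.SpecMap_stalkSpecializes_fromSpecStalk ((genericPoint_spec X).specializes trivial : genericPoint X ⤳ x)]
  rfl

lemma exists_dominated_of_liesOver (f : X ⟶ Y) (V : ValuationSubring X.functionField)
    (hV : LiesOver f V) :
    ∃ (y : Y) (hy : f.base (genericPoint X) ⤳ y),
      (∀ a : Y.presheaf.stalk y, (Y.presheaf.stalkSpecializes hy ≫ f.stalkMap (genericPoint X)).hom a ∈ V) ∧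
      ∀ a ∈ maximalIdeal (Y.presheaf.stalk y),
        V.valuation ((Y.presheaf.stalkSpecializes hy ≫ f.stalkMap (genericPoint X)).hom a) < 1 := by
  obtain ⟨m, hm⟩ := hV
  let y := m (closedPoint V)
  let pt : Spec (CommRingCat.of X.functionField) := closedPoint X.functionField
  have hy : f.base (genericPoint X) ⤳ y := by
    have h1 := congrArg (fun q => q pt) hm
    simp only [Scheme.Hom.comp_apply] at h1
    have h2 : X.fromSpecStalk (genericPoint X) pt = genericPoint X := Scheme.fromSpecStalk_closedPoint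
    rw [h2] at h1
    show f (genericPoint X) ⤳ y
    rw [← h1]
    exact (IsLocalRing.specializes_closedPoint _).map m.continuous
  have heq : Scheme.stalkClosedPointTo m ≫ CommRingCat.ofHom V.subtype =
      Y.presheaf.stalkSpecializes hy ≫ f.stalkMap (genericPoint X) := by
    apply Spec.map_injective
    rw [← cancel_mono (Y.fromSpecStalk y), Spec.map_comp, Category.assoc,
      Scheme.Spec_stalkClosedPointTo_fromSpecStalk, hm, Spec.map_comp, Category.assoc,
      Scheme.SpecMap_stalkSpecializes_fromSpecStalk, Scheme.SpecMap_stalkMap_fromSpecStalk]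
  refine ⟨y, hy, fun a => ?_, fun a ha => ?_⟩
  · rw [← heq]; exact ((Scheme.stalkClosedPointTo m).hom a).2
  · rw [← heq]
    exact (V.valuation_lt_one_iff _).mp ((mem_maximalIdeal _).mpr fun hu =>
      (mem_maximalIdeal a).mp ha (IsUnit.of_map (Scheme.stalkClosedPointTo m).hom a hu))

lemma hasCenter_top : HasCenter (⊤ : ValuationSubring X.functionField) := by
  refine ⟨Spec.map (CommRingCat.ofHom ((RingHom.id X.functionField).codRestrict
    (⊤ : ValuationSubring X.functionField).toSubring fun _ => trivial)) ≫ X.fromSpecStalk (genericPoint X), ?_⟩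
  rw [← Spec.map_comp_assoc]
  have : (CommRingCat.ofHom ((RingHom.id X.functionField).codRestrict
      (⊤ : ValuationSubring X.functionField).toSubring fun _ => trivial) ≫
      CommRingCat.ofHom (⊤ : ValuationSubring X.functionField).subtype) = 𝟙 _ := rfl
  rw [this, Spec.map_id, Category.id_comp]

/-- The residual composite of a valuation subring `W` with one of its residue field. -/
def composite {K : Type*} [Field K] (W : ValuationSubring K) (A' : ValuationSubring (ResidueField W)) :
    ValuationSubring K where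
  carrier := {a | ∃ h : a ∈ W, residue W ⟨a, h⟩ ∈ A'}
  mul_mem' := by
    rintro a b ⟨ha, ha'⟩ ⟨hb, hb'⟩
    exact ⟨W.mul_mem _ _ ha hb, by
      rw [show (⟨a * b, W.mul_mem _ _ ha hb⟩ : W) = ⟨a, ha⟩ * ⟨b, hb⟩ from rfl, map_mul]
      exact A'.mul_mem _ _ ha' hb'⟩
  one_mem' := ⟨W.one_mem, by
    rw [show (⟨1, W.one_mem⟩ : W) = 1 from rfl, map_one]; exact A'.one_mem⟩
  add_mem' := by
    rintro a b ⟨ha, ha'⟩ ⟨hb, hb'⟩
    exact ⟨W.add_mem _ _ ha hb, by
      rw [show (⟨a + b, W.add_mem _ _ ha hb⟩ : W) = ⟨a, ha⟩ + ⟨b, hb⟩ from rfl, map_add]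
      exact A'.add_mem _ _ ha' hb'⟩
  zero_mem' := ⟨W.zero_mem, by
    rw [show (⟨0, W.zero_mem⟩ : W) = 0 from rfl, map_zero]; exact A'.zero_mem⟩
  neg_mem' := by
    rintro a ⟨ha, ha'⟩
    exact ⟨W.neg_mem _ ha, by
      rw [show (⟨-a, W.neg_mem _ ha⟩ : W) = -⟨a, ha⟩ from rfl, map_neg]
      exact A'.neg_mem _ ha'⟩
  mem_or_inv_mem' := by
    intro a
    by_cases ha : a ∈ W
    · by_cases hu : IsUnit (⟨a, ha⟩ : W)
      · obtain ⟨u, hu⟩ := hu
        have hinv : (((u⁻¹ : Wˣ) : W) : K) = a⁻¹ := by
          apply eq_inv_of_mul_eq_one_left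
          have := congrArg Subtype.val u.inv_mul
          rw [hu] at this
          exact this
        rcases A'.mem_or_inv_mem (residue W ⟨a, ha⟩) with h | h
        · exact Or.inl ⟨ha, h⟩
        · refine Or.inr ⟨hinv ▸ ((u⁻¹ : Wˣ) : W).2, ?_⟩
          have he : (⟨a⁻¹, hinv ▸ ((u⁻¹ : Wˣ) : W).2⟩ : W) = ((u⁻¹ : Wˣ) : W) := Subtype.ext hinv.symm
          rw [he]
          convert h using 1
          rw [← hu]
          exact map_units_inv (residue W) u
      · refine Or.inl ⟨ha, ?_⟩
        rw [(residue_eq_zero_iff _).mpr ((mem_maximalIdeal _).mpr hu)]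
        exact A'.zero_mem
    · have hinv : a⁻¹ ∈ W := (W.mem_or_inv_mem a).resolve_left ha
      refine Or.inr ⟨hinv, ?_⟩
      have : ¬ IsUnit (⟨a⁻¹, hinv⟩ : W) := by
        intro hu
        obtain ⟨u, hu⟩ := hu
        have h1 : (((u⁻¹ : Wˣ) : W) : K) = a := by
          rw [← inv_inv a]
          apply eq_inv_of_mul_eq_one_left
          have := congrArg Subtype.val u.inv_mul
          rw [hu] at this
          exact this
        exact ha (h1 ▸ Subtype.prop _)
      rw [(residue_eq_zero_iff _).mpr ((mem_maximalIdeal _).mpr this)]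
      exact A'.zero_mem

/-- If every valuation subring of the function field lying over `Y` has a center on `X`, the
valuative criterion of existence holds. -/
theorem existence_of_hasCenter [X.IsSeparated] [Y.IsSeparated] (f : X ⟶ Y)
    (H : ∀ V : ValuationSubring X.functionField, LiesOver f V → HasCenter V) :
    ValuativeCriterion.Existence f := by
  rintro ⟨R, K, i₁, i₂, ⟨w⟩⟩
  let pt : Spec (CommRingCat.of K) := closedPoint K
  let x := i₁ pt
  let φ : X.residueField x ⟶ CommRingCat.of K := X.descResidueField (Scheme.stalkClosedPointTo i₁)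
  have hi₁ : Spec.map φ ≫ X.fromSpecResidueField x = i₁ :=
    X.descResidueField_stalkClosedPointTo_fromSpecResidueField K i₁
  -- the valuation ring induced on the residue field
  let RK : ValuationSubring K :=
    ⟨(algebraMap R K).range, ValuationRing.isInteger_or_isInteger R⟩
  let A₀ : ValuationSubring (X.residueField x) := RK.comap φ.hom
  have hA₀loc : ∀ z ∈ A₀, z⁻¹ ∈ A₀ ∨ ∃ h : z ∈ A₀, (⟨z, h⟩ : A₀) ∈ maximalIdeal A₀ := by
    intro z hz
    by_cases hu : IsUnit (⟨z, hz⟩ : A₀)
    · obtain ⟨u, hu⟩ := hu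
      left
      have h1 : (((u⁻¹ : A₀ˣ) : A₀) : X.residueField x) = z⁻¹ := by
        apply eq_inv_of_mul_eq_one_left
        have := congrArg Subtype.val u.inv_mul
        rw [hu] at this
        exact this
      exact h1 ▸ Subtype.prop _
    · exact Or.inr ⟨hz, (mem_maximalIdeal _).mpr hu⟩
  -- a valuation ring `W` of the function field dominating the local ring at `x`
  have hξ : genericPoint X ⤳ x := (genericPoint_spec X).specializes trivial
  obtain ⟨W, hW, hWloc⟩ := IsLocalRing.exists_factor_valuationRing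
    (X.presheaf.stalkSpecializes hξ).hom
  let αW : X.presheaf.stalk x →+* W := (X.presheaf.stalkSpecializes hξ).hom.codRestrict W.toSubring hW
  have : IsLocalHom αW := hWloc
  let j : X.residueField x →+* ResidueField W := ResidueField.map αW
  obtain ⟨A', hA', hA'loc⟩ := IsLocalRing.exists_factor_valuationRing (j.comp A₀.subtype)
  -- `A'` induces `A₀`
  have hind : ∀ z : X.residueField x, j z ∈ A' → z ∈ A₀ := by
    intro z hz
    by_contra hz0
    have hinv : z⁻¹ ∈ A₀ := (A₀.mem_or_inv_mem z).resolve_left hz0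
    rcases hA₀loc _ hinv with h | ⟨h, hm⟩
    · exact hz0 (inv_inv z ▸ h)
    · apply (mem_maximalIdeal _).mp hm
      refine IsUnit.of_map ((j.comp A₀.subtype).codRestrict A'.toSubring hA') _ ?_
      have hz' : z ≠ 0 := fun h0 => hz0 (h0 ▸ A₀.zero_mem)
      exact IsUnit.of_mul_eq_one ⟨j z, hz⟩ (Subtype.ext (by
        change j z⁻¹ * j z = 1
        rw [← map_mul, inv_mul_cancel₀ hz', map_one]))
  let V := composite W A'
  have hVW : ∀ a, a ∈ V → a ∈ W := fun a ha => ha.1
  -- `V` lies over `i₂` of the closed point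
  let y' := i₂ (closedPoint R)
  have hspy : f x ⤳ y' := by
    have h1 := congrArg (fun q => q pt) w
    simp only [Scheme.Hom.comp_apply] at h1
    show f (i₁ pt) ⤳ y'
    rw [h1]
    exact (IsLocalRing.specializes_closedPoint _).map i₂.continuous
  let β := Scheme.stalkClosedPointTo i₂
  have hβ : β ≫ CommRingCat.ofHom (algebraMap R K) =
      Y.presheaf.stalkSpecializes hspy ≫ f.stalkMap x ≫ X.residue x ≫ φ := by
    apply Spec.map_injective
    rw [← cancel_mono (Y.fromSpecStalk y'), Spec.map_comp, Category.assoc,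
      Scheme.Spec_stalkClosedPointTo_fromSpecStalk, ← w]
    conv_lhs => rw [← hi₁]
    simp only [Spec.map_comp, Category.assoc, Scheme.SpecMap_stalkSpecializes_fromSpecStalk,
      Scheme.SpecMap_stalkMap_fromSpecStalk, Scheme.fromSpecResidueField]
  have hmemV : ∀ a : Y.presheaf.stalk y',
      (Y.presheaf.stalkSpecializes hspy ≫ f.stalkMap x ≫ X.presheaf.stalkSpecializes hξ).hom a ∈ V := by
    intro a
    let b := (Y.presheaf.stalkSpecializes hspy ≫ f.stalkMap x).hom a
    refine ⟨hW b, ?_⟩
    have hb : X.residue x b ∈ A₀ := by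
      change φ.hom (X.residue x b) ∈ (algebraMap R K).range
      exact ⟨β.hom a, congrArg (fun q => q.hom a) hβ⟩
    exact hA' ⟨_, hb⟩
  obtain ⟨l, hl⟩ := H V ⟨Spec.map (CommRingCat.ofHom
      ((Y.presheaf.stalkSpecializes hspy ≫ f.stalkMap x ≫ X.presheaf.stalkSpecializes hξ).hom.codRestrict
        V.toSubring hmemV)) ≫ Y.fromSpecStalk y', by
      rw [← Spec.map_comp_assoc]
      change Spec.map (Y.presheaf.stalkSpecializes hspy ≫ f.stalkMap x ≫ X.presheaf.stalkSpecializes hξ) ≫ _ = _
      simp only [Spec.map_comp, Category.assoc, Scheme.SpecMap_stalkSpecializes_fromSpecStalk,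
        Scheme.SpecMap_stalkMap_fromSpecStalk, Scheme.SpecMap_stalkSpecializes_fromSpecStalk_assoc]⟩
  -- the center of `V` is a specialization of `x`
  let ι : Spec (CommRingCat.of W) ⟶ Spec (CommRingCat.of V) :=
    Spec.map (CommRingCat.ofHom (V.subtype.codRestrict W.toSubring fun a => hVW a a.2))
  have hιl : ι ≫ l = Spec.map (CommRingCat.ofHom αW) ≫ X.fromSpecStalk x := by
    apply hom_ext_of_valuationSubring W
    rw [← Spec.map_comp_assoc, ← Spec.map_comp_assoc]
    refine hl.trans ?_
    exact (Scheme.SpecMap_stalkSpecializes_fromSpecStalk hξ).symm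
  let x' := l (closedPoint V)
  have hxx' : x ⤳ x' := by
    have h1 := congrArg (fun q => q (closedPoint W)) hιl
    simp only [Scheme.Hom.comp_apply] at h1
    rw [show Spec.map (CommRingCat.ofHom αW) (closedPoint W) = closedPoint (X.presheaf.stalk x) from
      IsLocalRing.comap_closedPoint αW, X.fromSpecStalk_closedPoint] at h1
    show x ⤳ l (closedPoint V)
    rw [← h1]
    exact (IsLocalRing.specializes_closedPoint _).map l.continuous
  let α := Scheme.stalkClosedPointTo l
  have hα : α ≫ CommRingCat.ofHom V.subtype =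
      X.presheaf.stalkSpecializes ((genericPoint_spec X).specializes trivial : genericPoint X ⤳ x') := by
    apply Spec.map_injective
    rw [← cancel_mono (X.fromSpecStalk x'), Spec.map_comp, Category.assoc,
      Scheme.Spec_stalkClosedPointTo_fromSpecStalk, hl, Scheme.SpecMap_stalkSpecializes_fromSpecStalk]
  have hmemA₀ : ∀ a : X.presheaf.stalk x',
      φ.hom ((X.presheaf.stalkSpecializes hxx' ≫ X.residue x).hom a) ∈ (algebraMap R K).range := by
    intro a
    apply hind
    have h1 : ((α.hom a : V) : X.functionField) =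
        (X.presheaf.stalkSpecializes hξ).hom ((X.presheaf.stalkSpecializes hxx').hom a) := by
      have := congrArg (fun q => q.hom a) hα
      simp only [CommRingCat.hom_comp, RingHom.coe_comp, Function.comp_apply, CommRingCat.hom_ofHom] at this
      refine this.trans ?_
      rw [← TopCat.Presheaf.stalkSpecializes_comp _ hξ hxx']
      rfl
    obtain ⟨h, hh⟩ := (α.hom a).2
    have h2 : (⟨((α.hom a : V) : X.functionField), h⟩ : W) =
        αW ((X.presheaf.stalkSpecializes hxx').hom a) := Subtype.ext h1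
    rw [h2] at hh
    exact hh
  let e : R ≃+* (algebraMap R K).range :=
    RingEquiv.ofBijective (algebraMap R K).rangeRestrict
      ⟨fun _ _ h => IsFractionRing.injective R K (congrArg Subtype.val h),
        (algebraMap R K).rangeRestrict_surjective⟩
  let lamR : X.presheaf.stalk x' →+* R :=
    e.symm.toRingHom.comp
      (((X.presheaf.stalkSpecializes hxx' ≫ X.residue x ≫ φ).hom).codRestrict _ hmemA₀)
  have hlamR : CommRingCat.ofHom lamR ≫ CommRingCat.ofHom (algebraMap R K) =
      X.presheaf.stalkSpecializes hxx' ≫ X.residue x ≫ φ := by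
    refine CommRingCat.hom_ext (RingHom.ext fun a => ?_)
    exact congrArg Subtype.val (e.apply_symm_apply
      ((((X.presheaf.stalkSpecializes hxx' ≫ X.residue x ≫ φ).hom).codRestrict _ hmemA₀) a))
  have hfac : Spec.map (CommRingCat.ofHom (algebraMap R K)) ≫
      (Spec.map (CommRingCat.ofHom lamR) ≫ X.fromSpecStalk x') = i₁ := by
    rw [← Spec.map_comp_assoc, hlamR]
    simp only [Spec.map_comp, Category.assoc, Scheme.SpecMap_stalkSpecializes_fromSpecStalk]
    exact hi₁
  refine ⟨⟨⟨_, hfac, hom_ext_of_valuationRing (K := K) _ _ ?_⟩⟩⟩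
  rw [← Category.assoc, hfac, w]

/-- Over a locally Noetherian base, discrete valuation rings suffice. -/
theorem hasCenter_of_forall_dvr [X.IsSeparated] [Y.IsSeparated] [IsLocallyNoetherian Y]
    (f : X ⟶ Y) [LocallyOfFiniteType f] [QuasiCompact f]
    (H : ∀ R : ValuationSubring X.functionField, IsDiscreteValuationRing R → LiesOver f R → HasCenter R)
    (V : ValuationSubring X.functionField) (hV : LiesOver f V) : HasCenter V := by
  classical
  obtain ⟨y, hy, hmem, hloc⟩ := exists_dominated_of_liesOver f V hV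
  obtain ⟨_, ⟨⟨U, hU, rfl⟩, hyU, -⟩⟩ :=
    Y.isBasis_affineOpens.exists_subset_of_mem_open (Set.mem_univ y) isOpen_univ
  have hξU : genericPoint X ∈ f ⁻¹ᵁ U := hy.mem_open U.2 hyU
  let φy : Y.presheaf.stalk y →+* X.functionField :=
    (Y.presheaf.stalkSpecializes hy ≫ f.stalkMap (genericPoint X)).hom
  by_contra hno
  -- finitely many affine charts
  obtain ⟨S, hSfin, hS⟩ : ∃ S : Set X.affineOpens, S.Finite ∧
      ((f ⁻¹ᵁ U : X.Opens) : Set X) = ⋃ W ∈ S, (W.1 : Set X) := by
    obtain ⟨S, hSfin, hS⟩ := (isCompact_iff_finite_and_eq_biUnion_affineOpens (U := f ⁻¹ᵁ U)).mp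
      (QuasiCompact.isCompact_preimage (f := f) (U : Set Y) U.2 hU.isCompact : IsCompact ((f ⁻¹ᵁ U : X.Opens) : Set X))
    exact ⟨S, hSfin, by rw [hS]; simp⟩
  have hξ : ∀ W : X.affineOpens, W ∈ S → ∀ z : X, z ∈ W.1 → genericPoint X ∈ W.1 := fun W _ z hz =>
    ((genericPoint_spec X).specializes trivial : genericPoint X ⤳ z).mem_open W.1.2 hz
  have hle : ∀ W ∈ S, W.1 ≤ f ⁻¹ᵁ U := fun W hW z hz => hS.ge (Set.mem_biUnion hW hz)
  -- every chart has a section outside `V`
  have hbad : ∀ W (hW : W ∈ S) (z : X) (hz : z ∈ W.1), ∃ g : Γ(X, W.1),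
      (X.presheaf.germ W.1 (genericPoint X) (hξ W hW z hz)).hom g ∉ V := by
    intro W hW z hz
    by_contra hall
    push Not at hall
    apply hno
    refine ⟨Spec.map (CommRingCat.ofHom ((X.presheaf.germ W.1 (genericPoint X) (hξ W hW z hz)).hom.codRestrict
      V.toSubring hall)) ≫ W.2.fromSpec, ?_⟩
    rw [← Spec.map_comp_assoc, ← W.2.fromSpecStalk_eq_fromSpecStalk (hξ W hW z hz)]
    rfl
  -- finitely many generators of the function field
  obtain ⟨W₀, hW₀, hξW₀⟩ : ∃ W ∈ S, genericPoint X ∈ W.1 := by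
    obtain ⟨W, hW, hmem⟩ := Set.mem_iUnion₂.mp (hS.le hξU)
    exact ⟨W, hW, hmem⟩
  obtain ⟨s, hs⟩ : ∃ s : Finset X.functionField, Subfield.closure (Set.range φy ∪ s) = ⊤ := by
    have hft := LocallyOfFiniteType.finiteType_appLE f hU W₀.2 (hle W₀ hW₀)
    let _ := (f.appLE U W₀.1 (hle W₀ hW₀)).hom.toAlgebra
    obtain ⟨G, hG⟩ := (hft : Algebra.FiniteType Γ(Y, U) Γ(X, W₀.1)).out
    let germ := (X.presheaf.germ W₀.1 (genericPoint X) hξW₀).hom
    refine ⟨G.image germ, top_le_iff.mp fun z _ => ?_⟩
    have : Nonempty W₀.1 := ⟨⟨_, hξW₀⟩⟩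
    have := functionField_isFractionRing_of_isAffineOpen X W₀.1 W₀.2
    have key : ∀ a : Γ(X, W₀.1), germ a ∈ Subfield.closure (Set.range φy ∪ ↑(G.image germ)) := by
      intro a
      have ha : a ∈ Algebra.adjoin Γ(Y, U) (G : Set Γ(X, W₀.1)) := by rw [hG]; trivial
      induction ha using Algebra.adjoin_induction with
      | mem b hb => exact Subfield.subset_closure (Or.inr (Finset.mem_image_of_mem _ hb))
      | algebraMap r =>
        refine Subfield.subset_closure (Or.inl ⟨Y.presheaf.germ U y hyU r, ?_⟩)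
        change (Y.presheaf.germ U y hyU ≫ Y.presheaf.stalkSpecializes hy ≫ f.stalkMap (genericPoint X)).hom r =
          (f.appLE U W₀.1 (hle W₀ hW₀) ≫ X.presheaf.germ W₀.1 (genericPoint X) hξW₀).hom r
        rw [Y.presheaf.germ_stalkSpecializes_assoc hyU hy, Scheme.Hom.germ_stalkMap, Scheme.Hom.appLE,
          Category.assoc, X.presheaf.germ_res]
      | add p q _ _ hp hq => rw [map_add]; exact add_mem hp hq
      | mul p q _ _ hp hq => rw [map_mul]; exact mul_mem hp hq
    obtain ⟨a, b, -, rfl⟩ := IsFractionRing.div_surjective Γ(X, W₀.1) z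
    exact div_mem (key a) (key b)
  choose g hg using fun (p : {W : X.affineOpens // W ∈ S ∧ ∃ z, z ∈ W.1}) =>
    hbad p.1 p.2.1 p.2.2.choose p.2.2.choose_spec
  have : Finite {W : X.affineOpens // W ∈ S ∧ ∃ z, z ∈ W.1} :=
    Set.Finite.to_subtype (hSfin.subset fun W h => h.1)
  let b : {W : X.affineOpens // W ∈ S ∧ ∃ z, z ∈ W.1} → X.functionField := fun p =>
    ((X.presheaf.germ p.1.1 (genericPoint X) (hξ p.1 p.2.1 _ p.2.2.choose_spec)).hom (g p))⁻¹
  let J := (Set.finite_range b).toFinset
  have hJV : ∀ x ∈ J, x ∈ V.nonunits := by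
    intro x hx
    obtain ⟨p, rfl⟩ := (Set.finite_range b).mem_toFinset.mp hx
    exact V.inv_mem_nonunits_iff.mpr (Or.inr (hg p))
  have hJ0 : ∃ x ∈ J, x ≠ 0 := by
    refine ⟨b ⟨W₀, hW₀, _, hξW₀⟩, (Set.finite_range b).mem_toFinset.mpr ⟨_, rfl⟩, inv_ne_zero fun h0 => ?_⟩
    exact hg _ (h0 ▸ V.zero_mem)
  let _ := φy.toAlgebra
  obtain ⟨R, hR, hAR, hJR⟩ := exists_dvr_of_valuationSubring (A := Y.presheaf.stalk y) s hs V hmem J hJV hJ0
  let mR : Spec (CommRingCat.of R) ⟶ Y :=
    Spec.map (CommRingCat.ofHom (φy.codRestrict R.toSubring hAR)) ≫ Y.fromSpecStalk y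
  have hmR : Spec.map (CommRingCat.ofHom R.subtype) ≫ mR = X.fromSpecStalk (genericPoint X) ≫ f := by
    rw [← Spec.map_comp_assoc]
    change Spec.map (Y.presheaf.stalkSpecializes hy ≫ f.stalkMap (genericPoint X)) ≫ _ = _
    simp only [Spec.map_comp, Category.assoc, Scheme.SpecMap_stalkSpecializes_fromSpecStalk,
      Scheme.SpecMap_stalkMap_fromSpecStalk]
  obtain ⟨l, hl⟩ := H R hR ⟨mR, hmR⟩
  have hlf : l ≫ f = mR :=
    hom_ext_of_valuationSubring R _ _ (by rw [hmR, ← Category.assoc, hl])
  let x' := l (closedPoint R)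
  have hx'U : x' ∈ f ⁻¹ᵁ U := by
    show f (l (closedPoint R)) ∈ U
    rw [← Scheme.Hom.comp_apply, hlf, Scheme.Hom.comp_apply]
    exact (Scheme.range_fromSpecStalk.le ⟨_, rfl⟩ : _ ⤳ y).mem_open U.2 hyU
  obtain ⟨W, hW, hxW⟩ := Set.mem_iUnion₂.mp (hS.le hx'U)
  let p : {W : X.affineOpens // W ∈ S ∧ ∃ z, z ∈ W.1} := ⟨W, hW, x', hxW⟩
  have hmemR : (X.presheaf.germ W.1 (genericPoint X) (hξ W hW x' hxW)).hom (g p) ∈ R := by
    have hα : Scheme.stalkClosedPointTo l ≫ CommRingCat.ofHom R.subtype =
        X.presheaf.stalkSpecializes ((genericPoint_spec X).specializes trivial : genericPoint X ⤳ x') := by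
      apply Spec.map_injective
      rw [← cancel_mono (X.fromSpecStalk x'), Spec.map_comp, Category.assoc,
        Scheme.Spec_stalkClosedPointTo_fromSpecStalk, hl, Scheme.SpecMap_stalkSpecializes_fromSpecStalk]
    have h1 : (X.presheaf.germ W.1 x' hxW ≫ Scheme.stalkClosedPointTo l ≫ CommRingCat.ofHom R.subtype).hom (g p) ∈ R :=
      Subtype.prop _
    rw [hα, X.presheaf.germ_stalkSpecializes hxW] at h1
    exact h1
  have hJp := hJR (b p) ((Set.finite_range b).mem_toFinset.mpr ⟨p, rfl⟩)
  rcases R.inv_mem_nonunits_iff.mp hJp with h0 | h0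
  · exact hg p (h0 ▸ V.zero_mem)
  · exact h0 hmemR

theorem isProper_of_hasCenter [X.IsSeparated] [Y.IsSeparated] (f : X ⟶ Y)
    [LocallyOfFiniteType f] [QuasiCompact f]
    (H : ∀ V : ValuationSubring X.functionField, LiesOver f V → HasCenter V) : IsProper f := by
  have := UniversallyClosed.of_valuativeCriterion f (existence_of_hasCenter f H)
  have : IsSeparated (f ≫ terminal.from Y) := by
    rw [terminal.comp_from]; infer_instance
  have : IsSeparated f := IsSeparated.of_comp f (terminal.from Y)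
  exact {}

end Groth.Agent.DVRDom
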